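import Cfsg.Agent.H532.NABox_m3
import Cfsg.Agent.H532.Thr.Rf
import Cfsg.Agent.H529.FSolv_m3
import Cfsg.Agent.S0058
import Cfsg.Prelude.Def_OddOrderLocal
import Cfsg.Prelude.Def_Solvable
import Cfsg.Agent.FastGrp
import Cfsg.Agent.Prune
set_option linter.all false

section
prune_inst 0x7ffcfefbaff8addfffff7e7ff7fccffc39d4dffff6dfff4bffecfbffffdf232f7be5fbaf9df458ff9ff6e23c10b87853f9ffce7fe36bdc7ffffd5ff45ffbee1fe5ffbfad71d6bc341ffe6ffffbf177ee7f3fffffffffffffffffffffffffffffffbfffffffff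

-- part: H529/CsGL
section
prune_inst 0x410000000018000000001c4292000000000b0000000000020588084020010620b82004000010004400380060011800000010000020000200411801a0000020821000a000000000000800000000000000000000000000000000000000000000000
set_option linter.all false
open scoped Cfsg.Agent.FastGrp

/-!
# GL for S4308 (helper529, for helper544)
-/

set_option autoImplicit false
set_option linter.unusedSectionVars false
set_option linter.style.haveILetI false

namespace Cfsg.Agent.H529.CsGL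

open Subgroup Cfsg Cfsg.Agent.H746.PrimElem Cfsg.Agent.H532.Thr Cfsg.Agent.H529.BlinA Cfsg.Agent.H529.ThmG
open Cfsg.Agent.H544.CS Cfsg.Agent.H529.FSolv Cfsg.Agent.H529.CsLin

universe u

/-- elementary abelian minimal normal subgroup -/
theorem exists_prime {G : Type u} [Group G] [Finite G] (V : Subgroup G) (hab : Ab V) (hmin : MinN V) :
    ∃ r : ℕ, r.Prime ∧ r ∣ Nat.card V ∧ ∀ v ∈ V, v ^ r = 1 := by
  obtain ⟨hn, hne, hm⟩ := hmin
  have h1 : Nat.card V ≠ 1 := by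
    rw [Ne, Subgroup.card_eq_one]
    exact hne
  obtain ⟨r, hr, hrd⟩ := Nat.exists_prime_and_dvd h1
  haveI : Fact r.Prime := ⟨hr⟩
  let M : Subgroup G :=
    { carrier := {v | v ∈ V ∧ v ^ r = 1}
      mul_mem' := by
        rintro a b ⟨ha, ha'⟩ ⟨hb, hb'⟩
        refine ⟨mul_mem ha hb, ?_⟩
        have hc : Commute a b := hab a ha b hb
        rw [hc.mul_pow, ha', hb', one_mul]
      one_mem' := ⟨one_mem _, one_pow _⟩
      inv_mem' := by
        rintro a ⟨ha, ha'⟩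
        exact ⟨inv_mem ha, by rw [inv_pow, ha', inv_one]⟩ }
  have hMn : M.Normal := ⟨by
    rintro a ⟨ha, ha'⟩ g
    exact ⟨hn.conj_mem _ ha g, by rw [conj_pow, ha', mul_one, mul_inv_cancel]⟩⟩
  have hMV : M ≤ V := fun v hv => hv.1
  obtain ⟨x, hx⟩ := exists_prime_orderOf_dvd_card' (G := V) r hrd
  rcases hm M hMn hMV with h2 | h2
  · exfalso
    have h3 : (x : G) ∈ M := ⟨x.2, by
      rw [← hx, ← Subgroup.coe_pow, pow_orderOf_eq_one]
      rfl⟩
    rw [h2, mem_bot] at h3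
    have h4 : x = 1 := Subtype.ext h3
    rw [h4, orderOf_one] at hx
    exact hr.one_lt.ne hx
  · refine ⟨r, hr, hrd, fun v hv => ?_⟩
    have h3 : v ∈ M := by rw [h2]; exact hv
    exact h3.2

variable {G : Type u} [Group G] [Finite G] {p q : ℕ}

/-- no fixed points of `P` on `V` -/
theorem inf_CP (hp : p.Prime) (hTA : TA p G) (hab : Ab (DD p G)) (hmin : MinN (DD p G)) (P : Sylow p G) {v : G}
    (hv : v ∈ DD p G) (hv' : v ∈ CP P) : v = 1 := by
  have hn : (DD p G ⊓ CP P).Normal := by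
    constructor
    rintro v ⟨hv, hv'⟩ g
    obtain ⟨c, hc, d, hd, rfl⟩ := hTA.decomp hp P g
    have e1 : d * v * d⁻¹ = v := by
      rw [hab d hd v hv, mul_inv_cancel_right]
    have e2 : c * d * v * (c * d)⁻¹ = c * (d * v * d⁻¹) * c⁻¹ := by group
    rw [e2, e1]
    exact mem_inf.2 ⟨hmin.1.conj_mem _ hv c, mul_mem (mul_mem hc hv') (inv_mem hc)⟩
  rcases hmin.2.2 _ hn inf_le_left with h | h
  · have h1 : v ∈ DD p G ⊓ CP P := ⟨hv, hv'⟩
    rw [h] at h1
    exact mem_bot.1 h1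
  · exfalso
    apply hmin.2.1
    rw [eq_bot_iff]
    refine hTA.DD_le_of hp P (M := ⊥) fun y hy d hd => ?_
    have h1 : d ∈ DD p G ⊓ CP P := by rw [h]; exact hd
    have h2 := mem_CP.1 h1.2 y hy
    rw [mem_bot, h2]
    group

theorem card_ne (hq : q.Prime) {M : Subgroup G} (hDM : DD p G ≤ M) (hqM : ¬ q ∣ Nat.card M) : ¬ q ∣ Nat.card (DD p G) :=
  fun h => hqM (h.trans (card_dvd_of_le hDM))

theorem relIndex_mul_card {X : Type*} [Group X] (H K : Subgroup X) (h : H ≤ K) : H.relIndex K * Nat.card H = Nat.card K := by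
  rw [← relIndex_bot_left (H := H), ← relIndex_bot_left (H := K), mul_comm]
  exact relIndex_mul_relIndex ⊥ H K bot_le h

/-- the index of `C(P)` divides the order of `V` -/
theorem index_CP_dvd (hp : p.Prime) (hTA : TA p G) (P : Sylow p G) : (CP P).index ∣ Nat.card (DD p G) := by
  have h1 : CP P ⊔ DD p G = ⊤ := by
    rw [eq_top_iff]
    intro g _
    obtain ⟨c, hc, d, hd, rfl⟩ := hTA.decomp hp P g
    exact mul_mem ((le_sup_left : CP P ≤ CP P ⊔ DD p G) hc) ((le_sup_right : DD p G ≤ CP P ⊔ DD p G) hd)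
  have h2 : (CP P).relIndex (CP P ⊔ DD p G) ∣ Nat.card (DD p G) := by
    have h3 : (CP P).relIndex (CP P ⊔ DD p G) * Nat.card (CP P) = Nat.card ↥(CP P ⊔ DD p G) :=
      relIndex_mul_card _ _ le_sup_left
    have h4 : (DD p G).relIndex (CP P ⊔ DD p G) * Nat.card (DD p G) = Nat.card ↥(CP P ⊔ DD p G) :=
      relIndex_mul_card _ _ le_sup_right
    have h5 : (DD p G).relIndex (CP P ⊔ DD p G) = (DD p G).relIndex (CP P) := relIndex_sup_right _ _
    have h6 : (DD p G).relIndex (CP P) ∣ Nat.card (CP P) := Subgroup.index_dvd_card _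
    obtain ⟨k, hk⟩ := h6
    rw [h5, ← h3, hk, ← mul_assoc, mul_comm] at h4
    have h7 : 0 < (DD p G).relIndex (CP P) := Nat.pos_of_ne_zero ((DD p G).subgroupOf (CP P)).index_ne_zero_of_finite
    refine ⟨k, Nat.eq_of_mul_eq_mul_right h7 ?_⟩
    rw [h4]; ring
  rw [h1, relIndex_top_right] at h2
  exact h2

/-- a `q`-element of `N` lies in a Sylow `q`-subgroup of `N` that centralises a Sylow `p`-subgroup -/
theorem exists_pair (hp : p.Prime) (hq : q.Prime) (hTA : TA p G) (hqD : ¬ q ∣ Nat.card (DD p G)) (N : Subgroup G)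
    [hN : N.Normal] {y : G} (hyN : y ∈ N) (hy : PEl q y) :
    ∃ (P : Sylow p G) (Q : Sylow q N), (∀ z ∈ Q, (z : G) ∈ CP P) ∧ (⟨y, hyN⟩ : N) ∈ Q := by
  haveI : Fact p.Prime := ⟨hp⟩
  haveI : Fact q.Prime := ⟨hq⟩
  let P₀ : Sylow p G := default
  have h1 : ¬ q ∣ ((CP P₀).subgroupOf N).index := by
    intro h
    exact hqD ((h.trans (BlinA.relIndex_dvd_index (CP P₀) N)).trans (index_CP_dvd hp hTA P₀))
  obtain ⟨Q₀, hQ₀⟩ := exists_sylow_of_index h1
  have hy' : PEl q (⟨y, hyN⟩ : N) := by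
    obtain ⟨k, hk⟩ := hy
    exact ⟨k, Subtype.ext hk⟩
  obtain ⟨Q, hQ⟩ := hy'.exists_sylow
  obtain ⟨n, rfl⟩ := MulAction.exists_smul_eq N Q₀ Q
  refine ⟨(n : G) • P₀, n • Q₀, ?_, hQ⟩
  intro z hz
  have h2 : n⁻¹ * z * n ∈ Q₀ := H544.CS.mem_smul_sylow.1 hz
  have h3 : ((n⁻¹ * z * n : N) : G) ∈ CP P₀ := mem_subgroupOf.1 (hQ₀ h2)
  rw [mem_CP] at h3 ⊢
  intro w hw
  have h4 := h3 _ (H544.CS.mem_smul_sylow.1 hw)
  have e1 : ((n⁻¹ * z * n : N) : G) = (n : G)⁻¹ * z * n := rfl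
  rw [e1] at h4
  calc w * (z : G) = n * (((n : G)⁻¹ * w * n) * ((n : G)⁻¹ * z * n)) * (n : G)⁻¹ := by group
    _ = n * (((n : G)⁻¹ * z * n) * ((n : G)⁻¹ * w * n)) * (n : G)⁻¹ := by rw [h4]
    _ = z * w := by group

/-- elements of `M` whose class size is prime to `q` are centralised by the given Sylow subgroup of `N` after
conjugation by an element of `M`. -/
theorem exists_conj_comm (hq : q.Prime) {M N : Subgroup G} [hM : M.Normal] [hN : N.Normal] (hMN : M ≤ N)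
    (hqi : ∃ n, M.relIndex N = q ^ n) (Q : Sylow q N) {x : G} (hx : x ∈ M) (hxq : RF q x) :
    ∃ m ∈ M, ∀ z ∈ Q, (z : G) * (m * x * m⁻¹) = m * x * m⁻¹ * z := by
  haveI : Fact q.Prime := ⟨hq⟩
  let x' : N := ⟨x, hMN hx⟩
  have h1 : RF q x' := by
    intro h
    apply hxq
    have h2 : centralizer ({x'} : Set N) = (centralizer ({x} : Set G)).subgroupOf N := by
      ext z
      rw [mem_subgroupOf, mem_centralizer_singleton_iff, mem_centralizer_singleton_iff, Subtype.ext_iff]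
      rfl
    rw [h2] at h
    exact h.trans (BlinA.relIndex_dvd_index _ _)
  obtain ⟨g, hg⟩ := h1.exists_conj Q
  -- `N = M Q`
  have h2 : M.subgroupOf N ⊔ (Q : Subgroup N) = ⊤ := by
    rw [← Subgroup.index_eq_one]
    obtain ⟨n, hn⟩ := hqi
    have h3 : (M.subgroupOf N ⊔ (Q : Subgroup N)).index ∣ q ^ n := by
      rw [← hn]; exact index_dvd_of_le le_sup_left
    have h4 : ¬ q ∣ (M.subgroupOf N ⊔ (Q : Subgroup N)).index := fun h =>
      Q.not_dvd_index (h.trans (index_dvd_of_le le_sup_right))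
    obtain ⟨k, -, hk⟩ := (Nat.dvd_prime_pow hq).1 h3
    rcases Nat.eq_zero_or_pos k with rfl | hk0
    · rw [hk, pow_zero]
    · exact absurd (hk ▸ dvd_pow_self q hk0.ne') h4
  have h5 : g ∈ (Q : Subgroup N) ⊔ M.subgroupOf N := by rw [sup_comm, h2]; trivial
  obtain ⟨y, hy, m, hm, hym⟩ := mem_sup_of_normal_right.1 h5
  refine ⟨m, mem_subgroupOf.1 hm, fun z hz => ?_⟩
  have h6 := hg (y * z * y⁻¹) (mul_mem (mul_mem hy hz) (inv_mem hy))
  rw [← hym] at h6
  have h7 : z * (m * x' * m⁻¹) = m * x' * m⁻¹ * z := by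
    calc z * (m * x' * m⁻¹) = y⁻¹ * (y * z * y⁻¹ * (y * m * x' * (y * m)⁻¹)) * y := by group
      _ = y⁻¹ * (y * m * x' * (y * m)⁻¹ * (y * z * y⁻¹)) * y := by rw [h6]
      _ = m * x' * m⁻¹ * z := by group
  exact congrArg Subtype.val h7

/-- a power of `y` nontrivial on `V` whose `q`-th power is trivial on `V`. -/
theorem exists_pow {V : Subgroup G} {y : G} (hy : PEl q y) (hyV : y ∉ centralizer (V : Set G)) :
    ∃ k : ℕ, y ^ k ∉ centralizer (V : Set G) ∧ (y ^ k) ^ q ∈ centralizer (V : Set G) := by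
  classical
  obtain ⟨k, hk⟩ := hy
  have h1 : ∃ k, y ^ q ^ k ∈ centralizer (V : Set G) := ⟨k, by rw [hk]; exact one_mem _⟩
  have h2 := Nat.find_spec h1
  have h3 : Nat.find h1 ≠ 0 := by
    intro h0
    rw [h0, pow_zero, pow_one] at h2
    exact hyV h2
  obtain ⟨j, hj⟩ := Nat.exists_eq_succ_of_ne_zero h3
  refine ⟨q ^ j, Nat.find_min h1 (by omega), ?_⟩
  rw [← pow_mul, ← pow_succ, ← Nat.succ_eq_add_one, ← hj]
  exact h2

/-- **the core**: the spread theorem and Theorem G applied to the action on `V` -/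
theorem core (hS : AllF.{u}) (hp : p.Prime) (hq : q.Prime) (hTA : TA p G) (hab : Ab (DD p G)) (hmin : MinN (DD p G))
    (hcov : ∀ x : G, ¬ RF p x → RF q x) (M : Subgroup G) [hM : M.Normal] (hDM : DD p G ≤ M) (hqM : ¬ q ∣ Nat.card M)
    (P : Sylow p G) (b : G) (hbP : b ∈ CP P) (hbV : b ∉ centralizer (DD p G : Set G))
    (hbq : b ^ q ∈ centralizer (DD p G : Set G))
    (hconj : ∀ x ∈ M, RF q x → ∃ m ∈ M, b * (m * x * m⁻¹) = m * x * m⁻¹ * b)
    {r : ℕ} [hr : Fact r.Prime] (hrV : r ∣ Nat.card (DD p G))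
    {W : Type u} [AddCommGroup W] [Module (ZMod r) W] [Finite W] (i : W → G) (ρ : G →* (W ≃ₗ[ZMod r] W))
    (hi : Function.Injective i) (hiV : ∀ v, v ∈ DD p G ↔ ∃ w, i w = v) (hadd : ∀ w w', i (w + w') = i w * i w')
    (hρ : ∀ (g : G) (w : W), i (ρ g w) = g * i w * g⁻¹) :
    ∃ (a l : ℕ) (x : W ≃ₗ[ZMod r] W), Prim r a l x ∧ x ∈ M.map ρ ∧ ρ b * x * (ρ b)⁻¹ ∈ zpowers x ∧
      ρ b * x ≠ x * ρ b ∧ (∃ v : W, v ≠ 0 ∧ ρ b v = v) ∧ (∀ g ∈ M.map ρ, g * x * g⁻¹ ∈ zpowers x) ∧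
      (∀ y ∈ M.map ρ, y ^ l = 1 → y ∈ zpowers x) ∧ (ρ b) ^ q = 1 ∧ (∀ g ∈ M.map ρ, ρ b * g * (ρ b)⁻¹ ∈ M.map ρ) ∧
      ¬ q ∣ Nat.card (M.map ρ) ∧ q ≠ r ∧
      Nat.card W - 1 = (centralizer {ρ b}).relIndex (M.map ρ) * (Nat.card {v : W // ρ b v = v} - 1) := by
  haveI : Finite (W ≃ₗ[ZMod r] W) := DFunLike.finite _
  have hzero : i 0 = 1 := by
    have h1 := hadd 0 0
    rw [add_zero] at h1
    exact (left_eq_mul.1 h1)
  have hneg : ∀ w, i (-w) = (i w)⁻¹ := by
    intro w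
    have h1 := hadd (-w) w
    rw [neg_add_cancel, hzero] at h1
    exact eq_inv_of_mul_eq_one_left h1.symm
  have hsub : ∀ w w', i (w - w') = i w * (i w')⁻¹ := fun w w' => by rw [sub_eq_add_neg, hadd, hneg]
  have hmem : ∀ w, i w ∈ DD p G := fun w => (hiV _).2 ⟨w, rfl⟩
  have hρ1 : ∀ g : G, ρ g = 1 ↔ g ∈ centralizer (DD p G : Set G) := by
    intro g
    rw [mem_centralizer_iff]
    constructor
    · intro h v hv
      obtain ⟨w, rfl⟩ := (hiV v).1 hv
      have h1 := hρ g w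
      rw [h, LinearEquiv.coe_one, id_eq] at h1
      calc i w * g = g * i w * g⁻¹ * g := by rw [← h1]
        _ = g * i w := by group
    · intro h
      apply LinearEquiv.ext
      intro w
      apply hi
      rw [hρ, ← h _ (hmem w), mul_inv_cancel_right]
      rfl
  have hρV : ∀ v ∈ DD p G, ρ v = 1 := fun v hv => (hρ1 v).2 (mem_centralizer_iff.2 fun w hw => hab w hw v hv)
  have hVM := hDM
  set s := ρ b with hs
  set L := M.map ρ with hL
  have hsq : s ^ q = 1 := by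
    rw [hs, ← map_pow]
    exact (hρ1 _).2 hbq
  have hs1 : s ≠ 1 := fun h => hbV ((hρ1 b).1 h)
  have hn : ∀ g ∈ L, s * g * s⁻¹ ∈ L := by
    rintro _ ⟨m, hm, rfl⟩
    refine ⟨b * m * b⁻¹, hM.conj_mem m hm b, ?_⟩
    rw [map_mul, map_mul, map_inv]
  have hqL : ¬ q ∣ Nat.card L := fun h => hqM (h.trans (card_map_dvd M ρ))
  have hqr : q ≠ r := by
    rintro rfl
    exact hqM (hrV.trans (card_dvd_of_le hDM))
  have hcop : q.Coprime (Nat.card L) := (Nat.Prime.coprime_iff_not_dvd hq).2 hqL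
  have hnn := fun g => mem_iff_of_conj (L := L) hn g
  -- the spread hypothesis
  obtain ⟨S1, -⟩ := spread_lin L s hq.pos hsq hnn hcop (by
    rintro _ ⟨m₀, hm₀, rfl⟩ v hv
    obtain ⟨c, hc, d, hd, rfl⟩ := hTA.decomp hp P m₀
    have hcM : c ∈ M := by
      have h1 := mul_mem hm₀ (inv_mem (hDM hd))
      rwa [mul_inv_cancel_right] at h1
    have hρc : ρ (c * d) = ρ c := by rw [map_mul, hρV d hd, mul_one]
    rw [hρc] at hv ⊢
    have hx : i v * c ∈ M := mul_mem (hDM (hmem v)) hcM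
    have hxp : ¬ RF p (i v * c) := by
      rw [hTA.RF_iff hp P]
      rintro ⟨e, he, h1⟩
      have h2 : e⁻¹ * (i v * c) * e = (e⁻¹ * i v * (c * e * c⁻¹)) * c := by group
      rw [h2] at h1
      have h3 : e⁻¹ * i v * (c * e * c⁻¹) ∈ CP P := by
        have := mul_mem h1 (inv_mem hc)
        rwa [mul_inv_cancel_right] at this
      have hce : c * e * c⁻¹ ∈ DD p G := hmin.1.conj_mem _ he c
      have h4 : e⁻¹ * i v * (c * e * c⁻¹) ∈ DD p G := mul_mem (mul_mem (inv_mem he) (hmem v)) hce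
      have h5 := inf_CP hp hTA hab hmin P h4 h3
      obtain ⟨u, hu⟩ := (hiV e⁻¹).1 (inv_mem he)
      apply hv u
      apply hi
      rw [hsub, hρ, hu, inv_inv]
      -- i v = c e⁻¹ c⁻¹ * e
      have h6 : i v = e * (c * e * c⁻¹)⁻¹ := by
        calc i v = e * (e⁻¹ * i v * (c * e * c⁻¹)) * (c * e * c⁻¹)⁻¹ := by group
          _ = e * (c * e * c⁻¹)⁻¹ := by rw [h5, mul_one]
      rw [h6, hab e he _ (inv_mem hce)]
      group
    obtain ⟨m, hm, hbm⟩ := hconj _ hx (hcov _ hxp)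
    obtain ⟨c', hc', d', hd', rfl⟩ := hTA.decomp hp P m
    have hρm : ρ (c' * d') = ρ c' := by rw [map_mul, hρV d' hd', mul_one]
    obtain ⟨u, hu⟩ := (hiV d'⁻¹).1 (inv_mem hd')
    have hwi : i (ρ c' (v + (ρ c u - u))) = c' * (i v * (c * d'⁻¹ * c⁻¹) * d') * c'⁻¹ := by
      rw [hρ, hadd, hsub, hρ, hu, inv_inv]
      group
    have hwV : c' * (i v * (c * d'⁻¹ * c⁻¹) * d') * c'⁻¹ ∈ DD p G := by rw [← hwi]; exact hmem _
    set w' := c' * (i v * (c * d'⁻¹ * c⁻¹) * d') * c'⁻¹ with hw'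
    have hcC : c' * c * c'⁻¹ ∈ CP P := mul_mem (mul_mem hc' hc) (inv_mem hc')
    have hdec : c' * d' * (i v * c) * (c' * d')⁻¹ = w' * (c' * c * c'⁻¹) := by
      have h1 : (i v * (c * d'⁻¹ * c⁻¹)) * d' = d' * (i v * (c * d'⁻¹ * c⁻¹)) :=
        hab _ (mul_mem (hmem v) (hmin.1.conj_mem _ (inv_mem hd') c)) _ hd'
      rw [hw', h1]
      group
    rw [hdec] at hbm
    -- uniqueness of the decomposition
    have hbw : b * w' * b⁻¹ ∈ DD p G := hmin.1.conj_mem _ hwV b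
    have hbc : b * (c' * c * c'⁻¹) * b⁻¹ ∈ CP P := mul_mem (mul_mem hbP hcC) (inv_mem hbP)
    have h7 : w'⁻¹ * (b * w' * b⁻¹) = c' * c * c'⁻¹ * (b * (c' * c * c'⁻¹) * b⁻¹)⁻¹ := by
      have h8 : b * w' * b⁻¹ * (b * (c' * c * c'⁻¹) * b⁻¹) = w' * (c' * c * c'⁻¹) := by
        calc b * w' * b⁻¹ * (b * (c' * c * c'⁻¹) * b⁻¹) = b * (w' * (c' * c * c'⁻¹)) * b⁻¹ := by group
          _ = w' * (c' * c * c'⁻¹) * b * b⁻¹ := by rw [hbm]
          _ = _ := by group
      calc w'⁻¹ * (b * w' * b⁻¹) = w'⁻¹ * (b * w' * b⁻¹ * (b * (c' * c * c'⁻¹) * b⁻¹)) *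
            (b * (c' * c * c'⁻¹) * b⁻¹)⁻¹ := by group
        _ = w'⁻¹ * (w' * (c' * c * c'⁻¹)) * (b * (c' * c * c'⁻¹) * b⁻¹)⁻¹ := by rw [h8]
        _ = c' * c * c'⁻¹ * (b * (c' * c * c'⁻¹) * b⁻¹)⁻¹ := by group
    have h8 : w'⁻¹ * (b * w' * b⁻¹) = 1 := by
      apply inf_CP hp hTA hab hmin P (mul_mem (inv_mem hwV) hbw)
      rw [h7]
      exact mul_mem hcC (inv_mem hbc)
    have h9 : b * w' * b⁻¹ = w' := by
      rw [inv_mul_eq_one] at h8
      exact h8.symm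
    have h10 : b * (c' * c * c'⁻¹) * b⁻¹ = c' * c * c'⁻¹ := by
      rw [h8] at h7
      exact (mul_inv_eq_one.1 h7.symm).symm
    refine ⟨ρ c', ⟨c' * d', hm, hρm⟩, u, ?_, ?_⟩
    · have h11 : b * (c' * c * c'⁻¹) = c' * c * c'⁻¹ * b := by
        calc b * (c' * c * c'⁻¹) = b * (c' * c * c'⁻¹) * b⁻¹ * b := by group
          _ = _ := by rw [h10]
      have h12 := congrArg ρ h11
      simp only [map_mul, map_inv] at h12
      exact h12
    · apply hi
      rw [hs, hρ, hwi]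
      exact h9)
  have hne : ∃ g ∈ L, s * g ≠ g * s := by
    by_contra hcon
    push Not at hcon
    have h1 : (centralizer {s}).relIndex L = 1 := by
      rw [relIndex_eq_one]
      intro g hg
      rw [mem_centralizer_singleton_iff]
      exact (hcon g hg).symm
    rw [h1, one_mul] at S1
    apply hs1
    have h2 : Nat.card {v : W // s v = v} = Nat.card W := by
      haveI : Nonempty {v : W // s v = v} := ⟨⟨0, map_zero s⟩⟩
      have h3 : 0 < Nat.card W := Nat.card_pos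
      have h4 : 0 < Nat.card {v : W // s v = v} := Nat.card_pos
      omega
    apply LinearEquiv.ext
    intro w
    by_contra hw
    have h3 : Nat.card {v : W // s v = v} < Nat.card W := by
      have := Fintype.ofFinite W
      classical
      rw [Nat.card_eq_fintype_card, Nat.card_eq_fintype_card]
      exact Fintype.card_subtype_lt (x := w) hw
    omega
  -- the order of `W`
  have hcard : ∃ a, Nat.card W = r ^ a := ⟨_, by
    rw [Module.natCard_eq_pow_finrank (K := ZMod r), Nat.card_zmod]⟩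
  obtain ⟨a, ha⟩ := hcard
  obtain ⟨l, x, h1, h2, h3, h4, h5, h6, h7⟩ := thmG hq ha L s hsq hn hqL hqr S1 hne
    (fun h => solv_lin hS L s hq hsq hnn hqL h)
  exact ⟨a, l, x, h1, h2, h3, h4, h5, h6, h7, hsq, hn, hqL, hqr, S1⟩

end Cfsg.Agent.H529.CsGL
end

-- part: H529/CsGL1
section
set_option linter.all false
open scoped Cfsg.Agent.FastGrp

/-!
# GL1 for S4308 (helper529, for helper544)
-/

set_option autoImplicit false
set_option linter.unusedSectionVars false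
set_option linter.style.haveILetI false

namespace Cfsg.Agent.H529.CsGL

open Subgroup Cfsg Cfsg.Agent.H746.PrimElem Cfsg.Agent.H532.Thr Cfsg.Agent.H529.BlinA Cfsg.Agent.H529.ThmG
open Cfsg.Agent.H544.CS Cfsg.Agent.H529.FSolv Cfsg.Agent.H529.CsLin

universe u

/-- the normaliser of a subgroup of prime order modulo its centraliser is cyclic -/
theorem cyclic_aut {G X : Type*} [Group G] [Group X] {l : ℕ} (hl : l.Prime) {x : X} (hx : orderOf x = l)
    (ρ : G →* X) (hn : ∀ (g : G) (z : X), z ∈ zpowers x ↔ ρ g * z * (ρ g)⁻¹ ∈ zpowers x) :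
    ∃ g : G, ∀ y : G, ∃ k : ℤ, ρ (y * (g ^ k)⁻¹) * x = x * ρ (y * (g ^ k)⁻¹) := by
  haveI : Fact l.Prime := ⟨hl⟩
  let θ : G →* MulAut (zpowers x) :=
    { toFun := fun g => cj (zpowers x) (ρ g) (hn g)
      map_one' := by
        ext z
        rw [cj_coe, map_one]
        simp
      map_mul' := fun g h => by
        ext z
        rw [MulAut.mul_apply, cj_coe, cj_coe, cj_coe, map_mul]
        group }
  have hθ : ∀ g z, ((θ g z : zpowers x) : X) = ρ g * z * (ρ g)⁻¹ := fun _ _ => rfl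
  haveI hcyc : IsCyclic (MulAut (zpowers x)) := by
    have h1 : Nat.card (zpowers x) = l := by rw [Nat.card_zpowers, hx]
    have e := IsCyclic.mulAutMulEquiv (zpowers x)
    rw [h1] at e
    exact isCyclic_of_surjective e.symm e.symm.surjective
  obtain ⟨⟨_, g, rfl⟩, hg⟩ := IsCyclic.exists_generator (α := θ.range)
  refine ⟨g, fun y => ?_⟩
  obtain ⟨k, hk⟩ := hg ⟨θ y, y, rfl⟩
  refine ⟨k, ?_⟩
  have h1 : (θ g) ^ k = θ y := congrArg Subtype.val hk
  have h2 : θ (y * (g ^ k)⁻¹) = 1 := by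
    rw [map_mul, map_inv, map_zpow, h1, mul_inv_cancel]
  have h3 := hθ (y * (g ^ k)⁻¹) ⟨x, mem_zpowers x⟩
  rw [h2] at h3
  have h4 : x = ρ (y * (g ^ k)⁻¹) * x * (ρ (y * (g ^ k)⁻¹))⁻¹ := h3
  exact (mul_inv_eq_iff_eq_mul.1 h4.symm)

/-- from the primitive element to `GL1` -/
theorem gl1_of_prim {G : Type u} [Group G] [Finite G] {V : Subgroup G} (M : Subgroup G) [hM : M.Normal]
    {r a l : ℕ} [Fact r.Prime] {W : Type u} [AddCommGroup W] [Module (ZMod r) W] [Finite W] (i : W → G)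
    (ρ : G →* (W ≃ₗ[ZMod r] W)) (hi : Function.Injective i) (hiV : ∀ v, v ∈ V ↔ ∃ w, i w = v)
    (hadd : ∀ w w', i (w + w') = i w * i w') (hρ : ∀ (g : G) (w : W), i (ρ g w) = g * i w * g⁻¹)
    {x : W ≃ₗ[ZMod r] W} (hP : Prim r a l x) (hx : x ∈ M.map ρ) (hu : ∀ y ∈ M.map ρ, y ^ l = 1 → y ∈ zpowers x) :
    GL1 V := by
  haveI : Finite (W ≃ₗ[ZMod r] W) := DFunLike.finite _
  have hzero : i 0 = 1 := by
    have h1 := hadd 0 0
    rw [add_zero] at h1
    exact (left_eq_mul.1 h1)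
  have hmem : ∀ w, i w ∈ V := fun w => (hiV _).2 ⟨w, rfl⟩
  have hρ1 : ∀ g : G, ρ g = 1 ↔ g ∈ centralizer (V : Set G) := by
    intro g
    rw [mem_centralizer_iff]
    constructor
    · intro h v hv
      obtain ⟨w, rfl⟩ := (hiV v).1 hv
      have h1 := hρ g w
      rw [h, LinearEquiv.coe_one, id_eq] at h1
      calc i w * g = g * i w * g⁻¹ * g := by rw [← h1]
        _ = g * i w := by group
    · intro h
      apply LinearEquiv.ext
      intro w
      apply hi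
      rw [hρ, ← h _ (hmem w), mul_inv_cancel_right]
      rfl
  have hxl : x ^ l = 1 := by rw [← hP.hx]; exact pow_orderOf_eq_one x
  -- conjugates of `x`
  have hcx : ∀ g : G, ρ g * x * (ρ g)⁻¹ ∈ zpowers x := by
    intro g
    apply hu
    · obtain ⟨m, hm, rfl⟩ := hx
      exact ⟨g * m * g⁻¹, hM.conj_mem m hm g, by rw [map_mul, map_mul, map_inv]⟩
    · rw [conj_pow, hxl, mul_one, mul_inv_cancel]
  have hcz : ∀ (g : G) (z : W ≃ₗ[ZMod r] W), z ∈ zpowers x → ρ g * z * (ρ g)⁻¹ ∈ zpowers x := by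
    rintro g _ ⟨k, rfl⟩
    show ρ g * x ^ k * (ρ g)⁻¹ ∈ zpowers x
    rw [← conj_zpow]
    exact zpow_mem (hcx g) k
  have hn : ∀ (g : G) (z : W ≃ₗ[ZMod r] W), z ∈ zpowers x ↔ ρ g * z * (ρ g)⁻¹ ∈ zpowers x := fun g z =>
    mem_iff_of_conj (hcz g) z
  let Y : Subgroup G := (centralizer {x}).comap ρ
  have hY : ∀ g, g ∈ Y ↔ ρ g * x = x * ρ g := by
    intro g
    rw [mem_comap, mem_centralizer_singleton_iff]
  refine ⟨Y, ⟨?_⟩, ?_, ?_, ?_, ?_⟩
  · intro y hy g
    rw [hY] at hy ⊢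
    obtain ⟨k, hk⟩ := hcx g⁻¹
    have hk' : x ^ k = ρ g⁻¹ * x * (ρ g⁻¹)⁻¹ := hk
    have h1 : Commute (ρ y) (x ^ k) := (show Commute (ρ y) x from hy).zpow_right k
    rw [hk', map_inv, inv_inv] at h1
    have h2 : ρ y * ((ρ g)⁻¹ * x * ρ g) = (ρ g)⁻¹ * x * ρ g * ρ y := h1
    rw [map_mul, map_mul, map_inv]
    calc ρ g * ρ y * (ρ g)⁻¹ * x = ρ g * (ρ y * ((ρ g)⁻¹ * x * ρ g)) * (ρ g)⁻¹ := by group
      _ = ρ g * ((ρ g)⁻¹ * x * ρ g * ρ y) * (ρ g)⁻¹ := by rw [h2]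
      _ = x * (ρ g * ρ y * (ρ g)⁻¹) := by group
  · intro g hg
    rw [hY, (hρ1 g).2 hg, one_mul, mul_one]
  · haveI := Cfsg.Agent.H177.ThrNum.cyclic_of_centralizes hP (Y.map ρ) (by
      rintro _ ⟨g, hg, rfl⟩
      exact (hY g).1 hg)
    obtain ⟨⟨_, c, hc, rfl⟩, hg⟩ := IsCyclic.exists_generator (α := Y.map ρ)
    refine ⟨c, hc, fun y hy => ?_⟩
    obtain ⟨k, hk⟩ := hg ⟨ρ y, y, hy, rfl⟩
    have h1 : (ρ c) ^ k = ρ y := congrArg Subtype.val hk
    refine ⟨k, (hρ1 _).1 ?_⟩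
    rw [map_mul, map_inv, map_zpow, h1, mul_inv_cancel]
  · obtain ⟨g, hg⟩ := cyclic_aut hP.hl hP.hx ρ hn
    refine ⟨g, fun y => ?_⟩
    obtain ⟨k, hk⟩ := hg y
    exact ⟨k, (hY _).2 hk⟩
  · intro y hy v hv hv1 hyv
    obtain ⟨w, rfl⟩ := (hiV v).1 hv
    apply (hρ1 y).1
    refine (v1_aux hP).1 (ρ y) ((hY y).1 hy) w ?_ ?_
    · rintro rfl
      exact hv1 hzero
    · apply hi
      rw [hρ, hyv, mul_inv_cancel_right]

/-- **GL** for S4308 -/
theorem gl1 (hS : AllF.{u}) {G : Type u} [Group G] [Finite G] {p q : ℕ} (hp : p.Prime) (hq : q.Prime) (hpq : p ≠ q)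
    (hTA : TA p G) (hab : Ab (DD p G)) (hmin : MinN (DD p G)) (hcov : ∀ x : G, ¬ RF p x → RF q x) (M N : Subgroup G)
    [M.Normal] [N.Normal] (hDM : DD p G ≤ M) (hMN : M ≤ N) (hqM : ¬ q ∣ Nat.card M) (hN : ∃ n, M.relIndex N = q ^ n)
    (y : G) (hyN : y ∈ N) (hyq : PEl q y) (hy : ∃ v ∈ DD p G, y * v ≠ v * y) : GL1 (DD p G) := by
  have hyV : y ∉ centralizer (DD p G : Set G) := by
    intro h
    obtain ⟨v, hv, hyv⟩ := hy
    exact hyv (mem_centralizer_iff.1 h v hv).symm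
  obtain ⟨P, Q, hQP, hyQ⟩ := exists_pair hp hq hTA (card_ne hq hDM hqM) N hyN hyq
  obtain ⟨k, hk1, hk2⟩ := exists_pow hyq hyV
  have hbQ : (⟨y, hyN⟩ : N) ^ k ∈ Q := pow_mem hyQ k
  have hbP : y ^ k ∈ CP P := hQP _ hbQ
  obtain ⟨r, hr, hrV, hrp⟩ := exists_prime (DD p G) hab hmin
  haveI : Fact r.Prime := ⟨hr⟩
  obtain ⟨W, _, _, _, i, ρ, hi, hiV, hadd, hρ⟩ := exists_rep (DD p G) hab hrp
  obtain ⟨a, l, x, h1, h2, -, -, -, -, h7, -⟩ := core hS hp hq hTA hab hmin hcov M hDM hqM P (y ^ k) hbP hk1 hk2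
    (fun x hx hxq => by
      obtain ⟨m, hm, h⟩ := exists_conj_comm hq hMN hN Q hx hxq
      exact ⟨m, hm, h _ hbQ⟩) hrV i ρ hi hiV hadd hρ
  exact gl1_of_prim M i ρ hi hiV hadd hρ h1 h2 h7

end Cfsg.Agent.H529.CsGL
end

-- part: H529/CsBL
section
set_option linter.all false
open scoped Cfsg.Agent.FastGrp

/-!
# BL for S4308 (helper529, for helper544), assuming part B of blin
-/

set_option autoImplicit false
set_option linter.unusedSectionVars false
set_option linter.style.haveILetI false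

namespace Cfsg.Agent.H529.CsGL

open Subgroup Cfsg Cfsg.Agent.H746.PrimElem Cfsg.Agent.H532.Thr Cfsg.Agent.H529.BlinA Cfsg.Agent.H529.ThmG
open Cfsg.Agent.H544.CS Cfsg.Agent.H529.FSolv Cfsg.Agent.H529.CsLin

universe u

/-- part B of blin (helper531) -/
def BlinB : Prop := ∀ {t a q l : ℕ} [Fact t.Prime] (_ : q.Prime) (_ : l.Prime) {V : Type u} [AddCommGroup V]
    [Module (ZMod t) V] [Finite V] (_ : Nat.card V = t ^ a) (_ : 0 < a) (_ : l ∣ t ^ a - 1)
    (_ : ∀ i, 0 < i → i < a → ¬ l ∣ t ^ i - 1)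
    (L : Subgroup (V ≃ₗ[ZMod t] V)) (s : V ≃ₗ[ZMod t] V) (_ : s ^ q = 1)
    (_ : ∀ g ∈ L, s * g * s⁻¹ ∈ L) (_ : ¬ q ∣ Nat.card L) (_ : q ≠ t)
    (_ : Nat.card V - 1 = (centralizer {s}).relIndex L * (Nat.card {v : V // s v = v} - 1))
    (_ : ∃ v : V, v ≠ 0 ∧ s v = v)
    (x : V ≃ₗ[ZMod t] V) (_ : x ∈ L) (_ : orderOf x = l) (_ : s * x * s⁻¹ ∈ zpowers x) (_ : s * x ≠ x * s)
    (_ : ∀ g ∈ L, g * x * g⁻¹ ∈ zpowers x)
    (z : V ≃ₗ[ZMod t] V) (_ : z ∈ L) (_ : s * z = z * s) (_ : ∀ g ∈ L, g * z = z * g → s * g = g * s), False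

/-- a Sylow `q`-subgroup centralises a Sylow `p`-subgroup -/
theorem exists_P {G : Type u} [Group G] [Finite G] {p q : ℕ} (hp : p.Prime) (hq : q.Prime) (hTA : TA p G)
    (hqD : ¬ q ∣ Nat.card (DD p G)) (Q : Sylow q G) : ∃ P : Sylow p G, ∀ z ∈ Q, z ∈ CP P := by
  haveI : Fact p.Prime := ⟨hp⟩
  haveI : Fact q.Prime := ⟨hq⟩
  let P₀ : Sylow p G := default
  obtain ⟨Q₀, hQ₀⟩ := exists_sylow_of_index (r := q) (C := CP P₀) (fun h => hqD (h.trans (index_CP_dvd hp hTA P₀)))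
  obtain ⟨n, rfl⟩ := MulAction.exists_smul_eq G Q₀ Q
  refine ⟨n • P₀, ?_⟩
  intro z hz
  have h3 : n⁻¹ * z * n ∈ CP P₀ := hQ₀ (H544.CS.mem_smul_sylow.1 hz)
  rw [mem_CP] at h3 ⊢
  intro w hw
  have h4 := h3 _ (H544.CS.mem_smul_sylow.1 hw)
  calc w * z = n * ((n⁻¹ * w * n) * (n⁻¹ * z * n)) * n⁻¹ := by group
    _ = n * ((n⁻¹ * z * n) * (n⁻¹ * w * n)) * n⁻¹ := by rw [h4]
    _ = z * w := by group

theorem rho_eq_one {G : Type u} [Group G] {V : Subgroup G}
    {r : ℕ} {W : Type u} [AddCommGroup W] [Module (ZMod r) W] (i : W → G)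
    (ρ : G →* (W ≃ₗ[ZMod r] W)) (hi : Function.Injective i) (hiV : ∀ v, v ∈ V ↔ ∃ w, i w = v)
    (hρ : ∀ (g : G) (w : W), i (ρ g w) = g * i w * g⁻¹) (g : G) : ρ g = 1 ↔ g ∈ centralizer (V : Set G) := by
  rw [mem_centralizer_iff]
  constructor
  · intro h v hv
    obtain ⟨w, rfl⟩ := (hiV v).1 hv
    have h1 := hρ g w
    rw [h, LinearEquiv.coe_one, id_eq] at h1
    calc i w * g = g * i w * g⁻¹ * g := by rw [← h1]
      _ = g * i w := by group
  · intro h
    apply LinearEquiv.ext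
    intro w
    apply hi
    rw [hρ, ← h _ ((hiV _).2 ⟨w, rfl⟩), mul_inv_cancel_right]
    rfl

/-- **BL** for S4308 -/
theorem bl (hB : BlinB.{u}) (hS : AllF.{u}) {G : Type u} [Group G] [Finite G] {p q : ℕ} (hp : p.Prime) (hq : q.Prime)
    (hpq : p ≠ q) (hTA : TA p G) (hab : Ab (DD p G)) (hmin : MinN (DD p G)) (hcov : ∀ x : G, ¬ RF p x → RF q x)
    (hTq : TA q G) (Q : Sylow q G) (hQ : ∃ y ∈ Q, ∃ v ∈ DD p G, y * v ≠ v * y) (z : G) (hz : ¬ q ∣ orderOf z)
    (hzQ : ∀ y ∈ Q, z * y = y * z)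
    (hC : ∀ g : G, g * z * g⁻¹ * z⁻¹ ∈ centralizer (DD p G : Set G) →
      ∀ y ∈ Q, g * y * g⁻¹ * y⁻¹ ∈ centralizer (DD p G : Set G)) : False := by
  obtain ⟨M, hM, hqM, ⟨n, hn⟩, hMc⟩ := hTq
  have hDM : DD p G ≤ M := DD_le fun y g _ => hMc y g
  obtain ⟨y, hyQ, v, hv, hyv⟩ := hQ
  have hyV : y ∉ centralizer (DD p G : Set G) := fun h => hyv (mem_centralizer_iff.1 h v hv).symm
  obtain ⟨P, hQP⟩ := exists_P hp hq hTA (card_ne hq hDM hqM) Q
  obtain ⟨k, hk1, hk2⟩ := exists_pow (PEl.of_mem hyQ) hyV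
  have hbQ : y ^ k ∈ Q := pow_mem hyQ k
  obtain ⟨r, hr, hrV, hrp⟩ := exists_prime (DD p G) hab hmin
  haveI : Fact r.Prime := ⟨hr⟩
  obtain ⟨W, _, _, _, i, ρ, hi, hiV, hadd, hρ⟩ := exists_rep (DD p G) hab hrp
  obtain ⟨a, l, x, h1, h2, h3, h4, h5, h6, h7, h8, h9, h10, h11, h12⟩ :=
    core hS hp hq hTA hab hmin hcov M hDM hqM P (y ^ k) (hQP _ hbQ) hk1 hk2
    (fun x hx hxq => by
      obtain ⟨m, hm, h⟩ := exists_conj_comm hq (M := M) (N := ⊤) le_top ⟨n, by rw [relIndex_top_right]; exact hn⟩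
        (Q.subtype le_top) hx hxq
      exact ⟨m, hm, h ⟨y ^ k, mem_top _⟩ (mem_subgroupOf.2 hbQ)⟩) hrV i ρ hi hiV hadd hρ
  have hzM : z ∈ M := by
    rw [← QuotientGroup.eq_one_iff, ← orderOf_eq_one_iff]
    have h13 : orderOf (z : G ⧸ M) ∣ q ^ n := by
      rw [← hn, Subgroup.index_eq_card]
      exact orderOf_dvd_natCard _
    have h14 : orderOf (z : G ⧸ M) ∣ orderOf z := orderOf_map_dvd (QuotientGroup.mk' M) z
    obtain ⟨j, -, hj⟩ := (Nat.dvd_prime_pow hq).1 h13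
    rcases Nat.eq_zero_or_pos j with rfl | hj0
    · rw [hj, pow_zero]
    · exact absurd ((hj ▸ dvd_pow_self q hj0.ne').trans h14) hz
  refine hB hq h1.hl h1.hV h1.ha h1.hdvd h1.hprim (M.map ρ) (ρ (y ^ k)) h8 h9 h10 h11 h12 h5 x h2 h1.hx h3 h4 h6
    (ρ z) ⟨z, hzM, rfl⟩ ?_ ?_
  · rw [← map_mul, ← map_mul, hzQ _ hbQ]
  · rintro _ ⟨m, hm, rfl⟩ hmz
    have h13 : m * z * m⁻¹ * z⁻¹ ∈ centralizer (DD p G : Set G) := by
      rw [← rho_eq_one i ρ hi hiV hρ]
      simp only [map_mul, map_inv]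
      rw [hmz]
      group
    have h14 := hC m h13 _ hbQ
    rw [← rho_eq_one i ρ hi hiV hρ] at h14
    rw [map_mul, map_mul, map_mul, map_inv, map_inv, mul_inv_eq_one, mul_inv_eq_iff_eq_mul] at h14
    exact h14.symm

/-- the box GL -/
theorem boxGL (hS : AllF.{u}) : BoxGL.{u} := fun _ _ _ _ _ hp hq hpq hTA hab hmin hcov M N _ _ hDM hMN hqM hN y hyN hyq hy =>
  gl1 hS hp hq hpq hTA hab hmin hcov M N hDM hMN hqM hN y hyN hyq hy

/-- the box BL -/
theorem boxBL (hB : BlinB.{u}) (hS : AllF.{u}) : BoxBL.{u} := fun _ _ _ _ _ hp hq hpq hTA hab hmin hcov hTq Q hQ z hz hzQ hC =>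
  bl hB hS hp hq hpq hTA hab hmin hcov hTq Q hQ z hz hzQ hC

end Cfsg.Agent.H529.CsGL
end

-- part: H529/CsBox
section
set_option linter.all false

/-!
# The linear boxes of S4308
-/

set_option autoImplicit false

namespace Cfsg.Agent.H529.CsGL

open Cfsg.Agent.H544.CS Cfsg.Agent.H529.FSolv

universe u

theorem blinB : BlinB.{u} := fun {_ _ _ _} _ h1 h2 {_} _ _ _ h3 h4 h5 h6 L s h7 h8 h9 h10 h11 h12 x h13 h14 h15 h16 h17
    z h18 h19 h20 =>
  Cfsg.Agent.H531.BlinB.blinB h1 h2 h3 h4 h5 h6 L s h7 h8 h9 h10 h11 h12 x h13 h14 h15 h16 h17 z h18 h19 h20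

theorem boxBL' (hS : AllF.{u}) : BoxBL.{u} := boxBL blinB hS

end Cfsg.Agent.H529.CsGL
end

-- part: H529/IncGL
section
prune_inst 0x20100000412200000018000000001c4292000000000b0000000000020588084020010620b82004000010004420380060011800000218000020000200411c01a0000020821000a000000000000800000000000000000000000000000000000000000000000
set_option linter.all false
open scoped Cfsg.Agent.FastGrp

/-!
# Semilinear groups, version with a complement (S4256, helper529)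
-/

set_option autoImplicit false
set_option linter.unusedSectionVars false
set_option linter.style.haveILetI false

namespace Cfsg.Agent.H529.IncGL

open Subgroup Cfsg Cfsg.Agent.H746.PrimElem Cfsg.Agent.H532.Thr Cfsg.Agent.H529.BlinA Cfsg.Agent.H529.ThmG
open Cfsg.Agent.H544.CS Cfsg.Agent.H529.FSolv Cfsg.Agent.H529.CsLin Cfsg.Agent.H529.CsGL

universe u

variable {G : Type u} [Group G] [Finite G] {p q : ℕ}

theorem decomp_compl {V C : Subgroup G} [V.Normal] (h : V ⊔ C = ⊤) (g : G) : ∃ c ∈ C, ∃ d ∈ V, g = c * d := by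
  have h1 : g ∈ C ⊔ V := by rw [sup_comm, h]; exact mem_top _
  obtain ⟨c, hc, d, hd, e⟩ := mem_sup_of_normal_right.1 h1
  exact ⟨c, hc, d, hd, e.symm⟩

theorem eq_one_compl {V C : Subgroup G} (h : V ⊓ C = ⊥) {v : G} (hv : v ∈ V) (hv' : v ∈ C) : v = 1 := by
  have h1 : v ∈ V ⊓ C := mem_inf.2 ⟨hv, hv'⟩
  rw [h] at h1
  exact mem_bot.1 h1

/-- **the core**: the spread theorem and Theorem G applied to the action on `V` -/
theorem core2 (hS : AllF.{u}) (hq : q.Prime) (V C : Subgroup G) [hV : V.Normal] (hVC : V ⊓ C = ⊥) (hVC' : V ⊔ C = ⊤)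
    (hab : Ab V) (h : ∀ u ∈ V, ∀ g ∈ C, (∀ v ∈ V, u ≠ g * v * g⁻¹ * v⁻¹) → RF q (u * g))
    (M : Subgroup G) [hM : M.Normal] (hDM : V ≤ M) (hqM : ¬ q ∣ Nat.card M)
    (b : G) (hbP : b ∈ C) (hbV : b ∉ centralizer (V : Set G)) (hbq : b ^ q ∈ centralizer (V : Set G))
    (hconj : ∀ x ∈ M, RF q x → ∃ m ∈ M, b * (m * x * m⁻¹) = m * x * m⁻¹ * b)
    {r : ℕ} [hr : Fact r.Prime] (hrV : r ∣ Nat.card (V))
    {W : Type u} [AddCommGroup W] [Module (ZMod r) W] [Finite W] (i : W → G) (ρ : G →* (W ≃ₗ[ZMod r] W))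
    (hi : Function.Injective i) (hiV : ∀ v, v ∈ V ↔ ∃ w, i w = v) (hadd : ∀ w w', i (w + w') = i w * i w')
    (hρ : ∀ (g : G) (w : W), i (ρ g w) = g * i w * g⁻¹) :
    ∃ (a l : ℕ) (x : W ≃ₗ[ZMod r] W), Prim r a l x ∧ x ∈ M.map ρ ∧ ρ b * x * (ρ b)⁻¹ ∈ zpowers x ∧
      ρ b * x ≠ x * ρ b ∧ (∃ v : W, v ≠ 0 ∧ ρ b v = v) ∧ (∀ g ∈ M.map ρ, g * x * g⁻¹ ∈ zpowers x) ∧
      (∀ y ∈ M.map ρ, y ^ l = 1 → y ∈ zpowers x) ∧ (ρ b) ^ q = 1 ∧ (∀ g ∈ M.map ρ, ρ b * g * (ρ b)⁻¹ ∈ M.map ρ) ∧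
      ¬ q ∣ Nat.card (M.map ρ) ∧ q ≠ r ∧
      Nat.card W - 1 = (centralizer {ρ b}).relIndex (M.map ρ) * (Nat.card {v : W // ρ b v = v} - 1) := by
  haveI : Finite (W ≃ₗ[ZMod r] W) := DFunLike.finite _
  have hzero : i 0 = 1 := by
    have h1 := hadd 0 0
    rw [add_zero] at h1
    exact (left_eq_mul.1 h1)
  have hneg : ∀ w, i (-w) = (i w)⁻¹ := by
    intro w
    have h1 := hadd (-w) w
    rw [neg_add_cancel, hzero] at h1
    exact eq_inv_of_mul_eq_one_left h1.symm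
  have hsub : ∀ w w', i (w - w') = i w * (i w')⁻¹ := fun w w' => by rw [sub_eq_add_neg, hadd, hneg]
  have hmem : ∀ w, i w ∈ V := fun w => (hiV _).2 ⟨w, rfl⟩
  have hρ1 : ∀ g : G, ρ g = 1 ↔ g ∈ centralizer (V : Set G) := by
    intro g
    rw [mem_centralizer_iff]
    constructor
    · intro h v hv
      obtain ⟨w, rfl⟩ := (hiV v).1 hv
      have h1 := hρ g w
      rw [h, LinearEquiv.coe_one, id_eq] at h1
      calc i w * g = g * i w * g⁻¹ * g := by rw [← h1]
        _ = g * i w := by group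
    · intro h
      apply LinearEquiv.ext
      intro w
      apply hi
      rw [hρ, ← h _ (hmem w), mul_inv_cancel_right]
      rfl
  have hρV : ∀ v ∈ V, ρ v = 1 := fun v hv => (hρ1 v).2 (mem_centralizer_iff.2 fun w hw => hab w hw v hv)
  have hVM := hDM
  set s := ρ b with hs
  set L := M.map ρ with hL
  have hsq : s ^ q = 1 := by
    rw [hs, ← map_pow]
    exact (hρ1 _).2 hbq
  have hs1 : s ≠ 1 := fun h => hbV ((hρ1 b).1 h)
  have hn : ∀ g ∈ L, s * g * s⁻¹ ∈ L := by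
    rintro _ ⟨m, hm, rfl⟩
    refine ⟨b * m * b⁻¹, hM.conj_mem m hm b, ?_⟩
    rw [map_mul, map_mul, map_inv]
  have hqL : ¬ q ∣ Nat.card L := fun h => hqM (h.trans (card_map_dvd M ρ))
  have hqr : q ≠ r := by
    rintro rfl
    exact hqM (hrV.trans (card_dvd_of_le hDM))
  have hcop : q.Coprime (Nat.card L) := (Nat.Prime.coprime_iff_not_dvd hq).2 hqL
  have hnn := fun g => mem_iff_of_conj (L := L) hn g
  -- the spread hypothesis
  obtain ⟨S1, -⟩ := spread_lin L s hq.pos hsq hnn hcop (by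
    rintro _ ⟨m₀, hm₀, rfl⟩ v hv
    obtain ⟨c, hc, d, hd, rfl⟩ := decomp_compl hVC' m₀
    have hcM : c ∈ M := by
      have h1 := mul_mem hm₀ (inv_mem (hDM hd))
      rwa [mul_inv_cancel_right] at h1
    have hρc : ρ (c * d) = ρ c := by rw [map_mul, hρV d hd, mul_one]
    rw [hρc] at hv ⊢
    have hx : i v * c ∈ M := mul_mem (hDM (hmem v)) hcM
    have hxp : RF q (i v * c) := by
      apply h _ (hmem v) _ hc
      intro e he heq
      obtain ⟨u, rfl⟩ := (hiV e).1 he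
      apply hv u
      apply hi
      rw [hsub, hρ]
      exact heq
    obtain ⟨m, hm, hbm⟩ := hconj _ hx hxp
    obtain ⟨c', hc', d', hd', rfl⟩ := decomp_compl hVC' m
    have hρm : ρ (c' * d') = ρ c' := by rw [map_mul, hρV d' hd', mul_one]
    obtain ⟨u, hu⟩ := (hiV d'⁻¹).1 (inv_mem hd')
    have hwi : i (ρ c' (v + (ρ c u - u))) = c' * (i v * (c * d'⁻¹ * c⁻¹) * d') * c'⁻¹ := by
      rw [hρ, hadd, hsub, hρ, hu, inv_inv]
      group
    have hwV : c' * (i v * (c * d'⁻¹ * c⁻¹) * d') * c'⁻¹ ∈ V := by rw [← hwi]; exact hmem _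
    set w' := c' * (i v * (c * d'⁻¹ * c⁻¹) * d') * c'⁻¹ with hw'
    have hcC : c' * c * c'⁻¹ ∈ C := mul_mem (mul_mem hc' hc) (inv_mem hc')
    have hdec : c' * d' * (i v * c) * (c' * d')⁻¹ = w' * (c' * c * c'⁻¹) := by
      have h1 : (i v * (c * d'⁻¹ * c⁻¹)) * d' = d' * (i v * (c * d'⁻¹ * c⁻¹)) :=
        hab _ (mul_mem (hmem v) (hV.conj_mem _ (inv_mem hd') c)) _ hd'
      rw [hw', h1]
      group
    rw [hdec] at hbm
    -- uniqueness of the decomposition
    have hbw : b * w' * b⁻¹ ∈ V := hV.conj_mem _ hwV b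
    have hbc : b * (c' * c * c'⁻¹) * b⁻¹ ∈ C := mul_mem (mul_mem hbP hcC) (inv_mem hbP)
    have h7 : w'⁻¹ * (b * w' * b⁻¹) = c' * c * c'⁻¹ * (b * (c' * c * c'⁻¹) * b⁻¹)⁻¹ := by
      have h8 : b * w' * b⁻¹ * (b * (c' * c * c'⁻¹) * b⁻¹) = w' * (c' * c * c'⁻¹) := by
        calc b * w' * b⁻¹ * (b * (c' * c * c'⁻¹) * b⁻¹) = b * (w' * (c' * c * c'⁻¹)) * b⁻¹ := by group
          _ = w' * (c' * c * c'⁻¹) * b * b⁻¹ := by rw [hbm]
          _ = _ := by group
      calc w'⁻¹ * (b * w' * b⁻¹) = w'⁻¹ * (b * w' * b⁻¹ * (b * (c' * c * c'⁻¹) * b⁻¹)) *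
            (b * (c' * c * c'⁻¹) * b⁻¹)⁻¹ := by group
        _ = w'⁻¹ * (w' * (c' * c * c'⁻¹)) * (b * (c' * c * c'⁻¹) * b⁻¹)⁻¹ := by rw [h8]
        _ = c' * c * c'⁻¹ * (b * (c' * c * c'⁻¹) * b⁻¹)⁻¹ := by group
    have h8 : w'⁻¹ * (b * w' * b⁻¹) = 1 := by
      apply eq_one_compl hVC (mul_mem (inv_mem hwV) hbw)
      rw [h7]
      exact mul_mem hcC (inv_mem hbc)
    have h9 : b * w' * b⁻¹ = w' := by
      rw [inv_mul_eq_one] at h8
      exact h8.symm
    have h10 : b * (c' * c * c'⁻¹) * b⁻¹ = c' * c * c'⁻¹ := by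
      rw [h8] at h7
      exact (mul_inv_eq_one.1 h7.symm).symm
    refine ⟨ρ c', ⟨c' * d', hm, hρm⟩, u, ?_, ?_⟩
    · have h11 : b * (c' * c * c'⁻¹) = c' * c * c'⁻¹ * b := by
        calc b * (c' * c * c'⁻¹) = b * (c' * c * c'⁻¹) * b⁻¹ * b := by group
          _ = _ := by rw [h10]
      have h12 := congrArg ρ h11
      simp only [map_mul, map_inv] at h12
      exact h12
    · apply hi
      rw [hs, hρ, hwi]
      exact h9)
  have hne : ∃ g ∈ L, s * g ≠ g * s := by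
    by_contra hcon
    push Not at hcon
    have h1 : (centralizer {s}).relIndex L = 1 := by
      rw [relIndex_eq_one]
      intro g hg
      rw [mem_centralizer_singleton_iff]
      exact (hcon g hg).symm
    rw [h1, one_mul] at S1
    apply hs1
    have h2 : Nat.card {v : W // s v = v} = Nat.card W := by
      haveI : Nonempty {v : W // s v = v} := ⟨⟨0, map_zero s⟩⟩
      have h3 : 0 < Nat.card W := Nat.card_pos
      have h4 : 0 < Nat.card {v : W // s v = v} := Nat.card_pos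
      omega
    apply LinearEquiv.ext
    intro w
    by_contra hw
    have h3 : Nat.card {v : W // s v = v} < Nat.card W := by
      have := Fintype.ofFinite W
      classical
      rw [Nat.card_eq_fintype_card, Nat.card_eq_fintype_card]
      exact Fintype.card_subtype_lt (x := w) hw
    omega
  -- the order of `W`
  have hcard : ∃ a, Nat.card W = r ^ a := ⟨_, by
    rw [Module.natCard_eq_pow_finrank (K := ZMod r), Nat.card_zmod]⟩
  obtain ⟨a, ha⟩ := hcard
  obtain ⟨l, x, h1, h2, h3, h4, h5, h6, h7⟩ := thmG hq ha L s hsq hn hqL hqr S1 hne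
    (fun h => solv_lin hS L s hq hsq hnn hqL h)
  exact ⟨a, l, x, h1, h2, h3, h4, h5, h6, h7, hsq, hn, hqL, hqr, S1⟩


/-- **GL1, complement version** -/
theorem gl1_compl (hS : AllF.{u}) (hq : q.Prime) (V C : Subgroup G) [hV : V.Normal] (hVC : V ⊓ C = ⊥)
    (hVC' : V ⊔ C = ⊤) (hab : Ab V) (hmin : MinN V)
    (h : ∀ u ∈ V, ∀ g ∈ C, (∀ v ∈ V, u ≠ g * v * g⁻¹ * v⁻¹) → RF q (u * g)) (M N : Subgroup G)
    [M.Normal] [N.Normal] (hDM : V ≤ M) (hMN : M ≤ N) (hqM : ¬ q ∣ Nat.card M) (hN : ∃ n, M.relIndex N = q ^ n)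
    (y : G) (hyN : y ∈ N) (hyq : PEl q y) (hy : ∃ v ∈ V, y * v ≠ v * y) : GL1 V := by
  haveI : Fact q.Prime := ⟨hq⟩
  have hyV : y ∉ centralizer (V : Set G) := by
    intro h
    obtain ⟨v, hv, hyv⟩ := hy
    exact hyv (mem_centralizer_iff.1 h v hv).symm
  -- a Sylow subgroup of `N` inside `C`
  have hidx : C.index ∣ Nat.card V := by
    have h1 : C ⊔ V = ⊤ := by rw [sup_comm]; exact hVC'
    have h2 : C.relIndex (C ⊔ V) ∣ Nat.card V := by
      have h3 : C.relIndex (C ⊔ V) * Nat.card C = Nat.card ↥(C ⊔ V) := relIndex_mul_card _ _ le_sup_left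
      have h4 : V.relIndex (C ⊔ V) * Nat.card V = Nat.card ↥(C ⊔ V) := relIndex_mul_card _ _ le_sup_right
      have h5 : V.relIndex (C ⊔ V) = V.relIndex C := relIndex_sup_right _ _
      have h6 : V.relIndex C ∣ Nat.card C := Subgroup.index_dvd_card _
      obtain ⟨k, hk⟩ := h6
      rw [h5, ← h3, hk, ← mul_assoc, mul_comm] at h4
      have h7 : 0 < V.relIndex C := Nat.pos_of_ne_zero (V.subgroupOf C).index_ne_zero_of_finite
      refine ⟨k, Nat.eq_of_mul_eq_mul_right h7 ?_⟩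
      rw [h4]; ring
    rw [h1, relIndex_top_right] at h2
    exact h2
  have hqV : ¬ q ∣ Nat.card V := fun h => hqM (h.trans (card_dvd_of_le hDM))
  have h1 : ¬ q ∣ (C.subgroupOf N).index := fun h =>
    hqV ((h.trans (BlinA.relIndex_dvd_index C N)).trans hidx)
  obtain ⟨Q₀, hQ₀⟩ := exists_sylow_of_index h1
  have hy' : PEl q (⟨y, hyN⟩ : N) := by
    obtain ⟨k, hk⟩ := hyq
    exact ⟨k, Subtype.ext hk⟩
  obtain ⟨Q, hQ⟩ := hy'.exists_sylow
  obtain ⟨n, rfl⟩ := MulAction.exists_smul_eq N Q₀ Q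
  have h2 : n⁻¹ * (⟨y, hyN⟩ : N) * n ∈ Q₀ := H544.CS.mem_smul_sylow.1 hQ
  set y₁ : N := n⁻¹ * (⟨y, hyN⟩ : N) * n with hy₁
  have hy₁C : (y₁ : G) ∈ C := mem_subgroupOf.1 (hQ₀ h2)
  have hy₁q : PEl q (y₁ : G) := by
    obtain ⟨k, hk⟩ := PEl.of_mem h2
    exact ⟨k, congrArg Subtype.val hk⟩
  have hy₁V : (y₁ : G) ∉ centralizer (V : Set G) := by
    intro h
    apply hyV
    haveI : (centralizer (V : Set G)).Normal := Subgroup.normal_centralizer
    have h3 := (inferInstance : (centralizer (V : Set G)).Normal).conj_mem _ h n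
    have e : (n : G) * y₁ * (n : G)⁻¹ = y := by
      rw [hy₁]
      show (n : G) * ((n : G)⁻¹ * y * n) * (n : G)⁻¹ = y
      group
    rwa [e] at h3
  obtain ⟨k, hk1, hk2⟩ := exists_pow hy₁q hy₁V
  have hbQ : y₁ ^ k ∈ Q₀ := pow_mem h2 k
  have hbC : (y₁ : G) ^ k ∈ C := pow_mem hy₁C k
  obtain ⟨r, hr, hrV, hrp⟩ := exists_prime V hab hmin
  haveI : Fact r.Prime := ⟨hr⟩
  obtain ⟨W, _, _, _, i, ρ, hi, hiV, hadd, hρ⟩ := exists_rep V hab hrp
  obtain ⟨a, l, x, h1, h2, -, -, -, -, h7, -⟩ := core2 hS hq V C hVC hVC' hab h M hDM hqM ((y₁ : G) ^ k) hbC hk1 hk2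
    (fun x hx hxq => by
      obtain ⟨m, hm, h⟩ := exists_conj_comm hq hMN hN Q₀ hx hxq
      exact ⟨m, hm, h _ hbQ⟩) hrV i ρ hi hiV hadd hρ
  exact gl1_of_prim M i ρ hi hiV hadd hρ h1 h2 h7

end Cfsg.Agent.H529.IncGL
end

-- part: H529/IncB
section
set_option linter.all false
open scoped Cfsg.Agent.FastGrp

/-!
# Theorem B of S4256 (helper529), case II: `q`-elements of `G''` lie in a normal `q`-subgroup

`p`: type A, nonadjacent to `q`, `G` of `q`-length at most one, `q ∤ |[G, P]|`.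
-/

set_option autoImplicit false
set_option linter.unusedSectionVars false

namespace Cfsg.Agent.H529.Inc

open Subgroup Cfsg.Agent.H532.Thr Cfsg.Agent.H544.CS Cfsg.Agent.H529.CsLin

universe u v

/-- Lemma X in the form used here -/
def BoxX : Prop := ∀ (G : Type u) [Group G] [Finite G] (V : Subgroup G), MinN V → ¬ Ab V → ∀ p q : ℕ, p.Prime → q.Prime →
  p ≠ q → ¬ p ∣ Nat.card V → ¬ q ∣ Nat.card V → ∀ a b : G, PEl p a → PEl q b → a * b = b * a →
  a ∉ centralizer (V : Set G) → b ∉ centralizer (V : Set G) → ∃ v ∈ V, ¬ RF p v ∧ ¬ RF q v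

/-- the `q`-elements of `G''` lie in a normal `q`-subgroup -/
def GoodQ (q : ℕ) (G : Type*) [Group G] : Prop :=
  ∃ A : Subgroup G, A.Normal ∧ (∀ x ∈ A, PEl q x) ∧ ∀ x ∈ derivedSeries G 2, PEl q x → x ∈ A

variable {G : Type u} [Group G] [Finite G] {p q r t : ℕ} {N M N' M' : Subgroup G}

theorem derived_one_le {Y : Subgroup G} (h : ∀ x y : G, x * y * x⁻¹ * y⁻¹ ∈ Y) : derivedSeries G 1 ≤ Y := by
  rw [derivedSeries_succ, derivedSeries_zero, commutator_le]
  intro x _ y _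
  exact h x y

theorem derived_two_le_one : derivedSeries G 2 ≤ derivedSeries G 1 := derivedSeries_antitone G (by norm_num)

/-- sublayers -/
theorem Lay.sub (hq : q.Prime) (L : Lay q G N M) (S : Subgroup G) : Lay q S (N.subgroupOf S) (M.subgroupOf S) := by
  haveI := L.nN
  haveI := L.nM
  refine ⟨inferInstance, inferInstance, comap_mono L.le, fun h => L.cop (h.trans ?_), ?_,
    fun h => L.idx (h.trans (relIndex_dvd_index_of_normal M S))⟩
  · have h4 : Nat.card ((N.subgroupOf S).map S.subtype) = Nat.card (N.subgroupOf S) :=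
      card_map_of_injective S.subtype_injective
    rw [← h4]
    exact card_dvd_of_le (by rw [subgroupOf_map_subtype]; exact inf_le_left)
  · have h1 : (N.subgroupOf S).relIndex (M.subgroupOf S) = N.relIndex (M ⊓ S) := by
      rw [← inf_subgroupOf_right M S, relIndex_subgroupOf inf_le_right]
    have h2 : N.relIndex (M ⊓ S) ∣ N.relIndex M := by
      rw [← relIndex_subgroupOf (H := N) (inf_le_left : M ⊓ S ≤ M)]
      exact relIndex_dvd_index_of_normal (N.subgroupOf M) ((M ⊓ S).subgroupOf M)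
    rw [← h1] at h2
    obtain ⟨n, hn⟩ := L.pow
    rw [hn] at h2
    obtain ⟨m, -, hm⟩ := (Nat.dvd_prime_pow hq).1 h2
    exact ⟨m, hm⟩

/-- adding a normal `q'`-subgroup -/
theorem Lay.sup (hq : q.Prime) (L : Lay q G N M) (D : Subgroup G) [D.Normal] (hD : ¬ q ∣ Nat.card D) :
    Lay q G (N ⊔ D) (M ⊔ D) := by
  haveI := L.nN
  haveI := L.nM
  refine ⟨inferInstance, inferInstance, sup_le_sup_right L.le D, fun h => ?_, ?_,
    fun h => L.idx (h.trans (index_dvd_of_le le_sup_left))⟩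
  · have h1 : Nat.card ↥(N ⊔ D) ∣ Nat.card N * Nat.card D := by
      have h3 : N.relIndex (D ⊔ N) * Nat.card N = Nat.card ↥(D ⊔ N) := CsGL.relIndex_mul_card _ _ le_sup_right
      have h5 : N.relIndex (D ⊔ N) = N.relIndex D := relIndex_sup_right _ _
      rw [sup_comm, ← h3, h5, mul_comm]
      exact mul_dvd_mul_left _ (Subgroup.index_dvd_card _)
    rcases (Nat.Prime.dvd_mul hq).1 (h.trans h1) with h2 | h2
    · exact L.cop h2
    · exact hD h2
  · have h1 : (N ⊔ D).relIndex (M ⊔ D) ∣ N.relIndex M := by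
      have h3 : (N ⊔ D).relIndex (M ⊔ D) = (N ⊔ D).relIndex M := by
        have h4 : M ⊔ D = M ⊔ (N ⊔ D) := by
          rw [← sup_assoc, sup_eq_left.2 L.le]
        rw [h4, relIndex_sup_right]
      rw [h3]
      exact relIndex_dvd_of_le_left M le_sup_left
    obtain ⟨n, hn⟩ := L.pow
    rw [hn] at h1
    obtain ⟨m, -, hm⟩ := (Nat.dvd_prime_pow hq).1 h1
    exact ⟨m, hm⟩

/-- the kernel of the action on the layer is of type A -/
theorem Lay.ta_Ker (hq : q.Prime) (L : Lay q G N M) [N.Normal] [M.Normal] : TA q (Ker N M) := by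
  refine ta_of_comm hq (L.sub hq (Ker N M)) fun g m hm => ?_
  rw [mem_subgroupOf]
  exact g.2 m (mem_subgroupOf.1 hm)

/-- if `G'` acts trivially on the layer then `G''` has no `q`-elements -/
theorem Lay.good (hq : q.Prime) (L : Lay q G N M) [N.Normal] [M.Normal] (h : derivedSeries G 1 ≤ Ker N M) :
    GoodQ q G := by
  refine ⟨⊥, inferInstance, fun x hx => ?_, fun x hx hxq => ?_⟩
  · rw [mem_bot.1 hx]; exact PEl.one
  obtain ⟨K, hK, h1, -, h3⟩ := L.ta_Ker hq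
  have h4 : derivedSeries G 2 ≤ K.map (Ker N M).subtype := by
    rw [derivedSeries_succ, commutator_le]
    intro a ha b hb
    exact ⟨_, h3 ⟨a, h ha⟩ ⟨b, h hb⟩, rfl⟩
  have h5 : ¬ q ∣ Nat.card (K.map (Ker N M).subtype) := by
    rw [card_map_of_injective (Ker N M).subtype_injective]; exact h1
  rw [mem_bot]
  exact hxq.eq_one_of_mem hq h5 (h4 hx)

theorem rf_sub {C : Subgroup G} [C.Normal] {x : C} (h : RF q (x : G)) : RF q x := by
  intro h1
  apply h
  have h2 : centralizer ({x} : Set C) = (centralizer ({(x : G)} : Set G)).subgroupOf C := by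
    ext z
    rw [mem_subgroupOf, mem_centralizer_singleton_iff, mem_centralizer_singleton_iff, Subtype.ext_iff]
    rfl
  rw [h2] at h1
  exact h1.trans (BlinA.relIndex_dvd_index _ _)

theorem PEl.sub {C : Subgroup G} {x : C} (h : PEl q (x : G)) : PEl q x := by
  obtain ⟨k, hk⟩ := h
  exact ⟨k, Subtype.ext hk⟩

theorem PEl.coe {C : Subgroup G} {x : C} (h : PEl q x) : PEl q (x : G) := by
  obtain ⟨k, hk⟩ := h
  exact ⟨k, congrArg Subtype.val hk⟩

/-- a normal subgroup of `q`-central elements: its `q`-elements form a normal subgroup -/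
theorem exists_core (hq : q.Prime) (C : Subgroup G) [hC : C.Normal] (h : ∀ x ∈ C, RF q x) :
    ∃ A : Subgroup G, A.Normal ∧ (∀ x ∈ A, PEl q x) ∧ ∀ x ∈ C, PEl q x → x ∈ A := by
  have hc : ∀ y ∈ C, PEl q y → ∀ x ∈ C, x * y = y * x := by
    intro y hy hyq x hx
    have h1 := central_of_RF (G := C) hq ⊤ (fun x _ => rf_sub (h x x.2)) (fun _ _ => mem_top _)
      (y := ⟨y, hy⟩) (PEl.sub hyq) (x := ⟨x, hx⟩) (mem_top _)
    exact congrArg Subtype.val h1
  let A : Subgroup G :=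
    { carrier := {x | x ∈ C ∧ PEl q x}
      one_mem' := ⟨one_mem _, PEl.one⟩
      mul_mem' := by
        rintro a b ⟨ha, ha'⟩ ⟨hb, hb'⟩
        refine ⟨mul_mem ha hb, ?_⟩
        have hab : Commute a b := hc b hb hb' a ha
        obtain ⟨m, hm⟩ := ha'
        obtain ⟨n, hn⟩ := hb'
        refine ⟨m + n, ?_⟩
        rw [hab.mul_pow, pow_add, pow_mul, hm, one_pow, one_mul, mul_comm, pow_mul, hn, one_pow]
      inv_mem' := by
        rintro a ⟨ha, ha'⟩
        exact ⟨inv_mem ha, ha'.inv⟩ }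
  refine ⟨A, ⟨?_⟩, fun x hx => hx.2, fun x hx hxq => ⟨hx, hxq⟩⟩
  rintro x ⟨hx, hxq⟩ g
  exact ⟨hC.conj_mem _ hx g, hxq.conj g⟩

/-- base case: `[G, P]` is a minimal normal `q'`-subgroup -/
theorem base (bGL : BoxGL.{u}) (bX : BoxX.{u}) (hp : p.Prime) (hq : q.Prime) (hpq : p ≠ q) (hTp : TA p G)
    (hNA : NAdj p q G) (L : Lay q G N M) (hqD : ¬ q ∣ Nat.card (DD p G)) (hmin : MinN (DD p G)) : GoodQ q G := by
  haveI := Fact.mk hp
  haveI := Fact.mk hq
  have hcov : ∀ x : G, ¬ RF p x → RF q x := fun x hx => (hNA x).resolve_left hx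
  by_cases hqV : ∀ y : G, PEl q y → y ∈ centralizer (DD p G : Set G)
  · obtain ⟨Q⟩ : Nonempty (Sylow q G) := inferInstance
    have hn := hTp.kernel_normal hp hq hmin hcov hqV Q
    refine ⟨Q, hn, fun x hx => PEl.of_mem hx, fun x _ hx => ?_⟩
    obtain ⟨Q', hQ'⟩ := hx.exists_sylow
    obtain ⟨g, rfl⟩ := MulAction.exists_smul_eq G Q Q'
    have h1 := hn.conj_mem _ (Cfsg.Agent.H544.CS.mem_smul_sylow.1 hQ') g
    have e : g * (g⁻¹ * x * g) * g⁻¹ = x := by group
    rwa [e] at h1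
  push Not at hqV
  obtain ⟨y, hy, hyV⟩ := hqV
  obtain ⟨P, Q, hQP, hyQ⟩ := CsGL.exists_pair hp hq hTp hqD ⊤ (mem_top y) hy
  have hyP : y ∈ CP P := hQP _ hyQ
  by_cases hab : Ab (DD p G)
  · haveI := L.nN
    haveI := L.nM
    have L₁ := L.sup hq (DD p G) hqD
    haveI := L₁.nN
    haveI := L₁.nM
    obtain ⟨v, hv, hyv⟩ : ∃ v ∈ DD p G, y * v ≠ v * y := by
      by_contra hcon
      push Not at hcon
      exact hyV (mem_centralizer_iff.2 fun v hv => (hcon v hv).symm)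
    obtain ⟨Y, hYn, hCY, -, ⟨g, hg⟩, hsemi⟩ := bGL G p q hp hq hpq hTp hab hmin hcov (N ⊔ DD p G) (M ⊔ DD p G)
      le_sup_right L₁.le L₁.cop L₁.pow y (L₁.pel_mem hq hy) hy ⟨v, hv, hyv⟩
    haveI := hYn
    have h1 : ∀ β ∈ Y, PEl q β → β ∈ centralizer (DD p G : Set G) := by
      intro β hβY hβ
      by_contra hβc
      obtain ⟨x, -, hx⟩ := hTp.exists_notRF hp hmin.2.1
      exact hx (kernelType hp hq hTp hab hmin hYn hsemi hβY hβ hβc (hcov x hx))
    haveI : (centralizer (DD p G : Set G)).Normal := Subgroup.normal_centralizer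
    have hk : ∀ x ∈ centralizer (DD p G : Set G), RF q x := by
      intro x hx
      -- kernel lemma without the hypothesis on the `q`-elements
      exact hTp.kernel hp hmin hcov hx
    obtain ⟨A, hA1, hA2, hA3⟩ := exists_core hq (centralizer (DD p G : Set G)) hk
    refine ⟨A, hA1, hA2, fun x hx hxq => hA3 x (h1 x ?_ hxq) hxq⟩
    exact derived_one_le (fun a b => comm_mem_of_cyc hg a b) (derived_two_le_one hx)
  · exfalso
    -- a `p`-element of `P` moving `DD p G`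
    have h1 : ∃ a ∈ P, a ∉ centralizer (DD p G : Set G) := by
      by_contra hcon
      push Not at hcon
      apply hmin.2.1
      rw [eq_bot_iff]
      refine hTp.DD_le_of hp P (M := ⊥) fun y hy d hd => ?_
      rw [mem_bot, ← mem_centralizer_iff.1 (hcon y hy) d hd]; group
    obtain ⟨a, ha, haV⟩ := h1
    obtain ⟨v, hv, h2, h3⟩ := bX G (DD p G) hmin hab p q hp hq hpq hTp.not_dvd hqD a y (PEl.of_mem ha) hy
      ((mem_CP.1 hyP) a ha) haV hyV
    exact (hNA v).elim h2 h3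

end Cfsg.Agent.H529.Inc
end

-- part: H529/IncC
section
prune_inst 0x410000000018008011002000000000900000000130000002010c0040a00100000800040010182a0000000020010800c00000000000000000000001200000000010000000000000002081180c00000000000000000000000000000004000000000
set_option linter.all false
open scoped Cfsg.Agent.FastGrp

/-!
# Theorem B of S4256 (helper529), case II: the induction
-/

set_option autoImplicit false
set_option linter.unusedSectionVars false

namespace Cfsg.Agent.H529.Inc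

open Subgroup Cfsg.Agent.H532.Thr Cfsg.Agent.H544.CS Cfsg.Agent.H529.CsLin Cfsg.Agent.H529.FSolv

universe u v

variable {G : Type u} [Group G] [Finite G] {p q r t : ℕ} {N M N' M' : Subgroup G}

/-- minimal normal subgroups exist -/
theorem exists_minN (D : Subgroup G) (hD : D.Normal) (hne : D ≠ ⊥) : ∃ W, MinN W ∧ W ≤ D := by
  obtain ⟨W, h3, h4⟩ := (Set.toFinite {R : Subgroup G | R.Normal ∧ R ≤ D ∧ R ≠ ⊥}).exists_le_minimal
    (a := D) ⟨hD, le_rfl, hne⟩
  refine ⟨W, ⟨h4.1.1, h4.1.2.2, fun S hS h5 => ?_⟩, h3⟩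
  by_cases hSD : S = ⊥
  · exact Or.inl hSD
  · exact Or.inr (le_antisymm h5 (h4.2 ⟨hS, h5.trans h4.1.2.1, hSD⟩ h5))

theorem mem_derived_quo (W : Subgroup G) [W.Normal] (n : ℕ) {x : G} (hx : x ∈ derivedSeries G n) :
    (x : G ⧸ W) ∈ derivedSeries (G ⧸ W) n :=
  map_derivedSeries_le_derivedSeries (QuotientGroup.mk' W) n ⟨x, hx, rfl⟩

/-- `A / W` a `q`-group, `W` a `q'`-group centralised by the `q`-elements of `A` -/
theorem good_of_cent (hq : q.Prime) {A W : Subgroup G} (hA : A.Normal) (hW : W.Normal) (hWA : W ≤ A)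
    (hAq : ∀ x ∈ A, PEl q (x : G ⧸ W)) (hqW : ¬ q ∣ Nat.card W)
    (hc : ∀ x ∈ A, PEl q x → x ∈ centralizer (W : Set G)) :
    ∃ B : Subgroup G, B.Normal ∧ (∀ x ∈ B, PEl q x) ∧ ∀ x ∈ A, PEl q x → x ∈ B := by
  haveI := Fact.mk hq
  have hdec : ∀ R : Sylow q A, ∀ a ∈ A, ∃ w ∈ W, ∃ r : A, r ∈ R ∧ a = w * r := by
    intro R a ha
    have h1 : W.subgroupOf A ⊔ (R : Subgroup A) = ⊤ := by
      have h2 : IsPGroup q (A ⧸ W.subgroupOf A) := by
        intro x
        obtain ⟨x, rfl⟩ := QuotientGroup.mk_surjective x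
        obtain ⟨k, hk⟩ := hAq x x.2
        refine ⟨k, ?_⟩
        rw [← QuotientGroup.mk_pow, QuotientGroup.eq_one_iff] at hk ⊢
        rw [mem_subgroupOf]
        exact hk
      obtain ⟨n, hn⟩ := (IsPGroup.iff_card).1 h2
      rw [← Subgroup.index_eq_one]
      have h3 : (W.subgroupOf A ⊔ (R : Subgroup A)).index ∣ q ^ n := by
        rw [← hn]; exact index_dvd_of_le le_sup_left
      have h4 : ¬ q ∣ (W.subgroupOf A ⊔ (R : Subgroup A)).index := fun h =>
        R.not_dvd_index (h.trans (index_dvd_of_le le_sup_right))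
      obtain ⟨k, -, hk⟩ := (Nat.dvd_prime_pow hq).1 h3
      rcases Nat.eq_zero_or_pos k with rfl | hk0
      · rw [hk, pow_zero]
      · exact absurd (hk ▸ dvd_pow_self q hk0.ne') h4
    have h2 : (⟨a, ha⟩ : A) ∈ W.subgroupOf A ⊔ (R : Subgroup A) := by rw [h1]; exact mem_top _
    obtain ⟨w, hw, r, hr, h⟩ := mem_sup_of_normal_left.1 h2
    exact ⟨w, mem_subgroupOf.1 hw, r, hr, (congrArg Subtype.val h).symm⟩
  obtain ⟨R⟩ : Nonempty (Sylow q A) := inferInstance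
  have hRn : (R : Subgroup A).Normal := by
    constructor
    intro x hx g
    obtain ⟨w, hw, s, hs, hg⟩ := hdec R g g.2
    have h1 : s * x * s⁻¹ ∈ R := mul_mem (mul_mem hs hx) (inv_mem hs)
    have h2 := mem_centralizer_iff.1 (hc _ (s * x * s⁻¹ : A).2 (PEl.coe (PEl.of_mem h1))) w hw
    have h3 : g * x * g⁻¹ = s * x * s⁻¹ := by
      apply Subtype.ext
      show (g : G) * x * (g : G)⁻¹ = s * x * (s : G)⁻¹
      rw [hg]
      have h4 : w * ((s : G) * x * (s : G)⁻¹) = (s : G) * x * (s : G)⁻¹ * w := h2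
      calc w * (s : G) * x * (w * (s : G))⁻¹ = w * ((s : G) * x * (s : G)⁻¹) * w⁻¹ := by group
        _ = (s : G) * x * (s : G)⁻¹ * w * w⁻¹ := by rw [h4]
        _ = _ := by group
    rw [h3]
    exact h1
  have hRc : (R : Subgroup A).Characteristic := Sylow.characteristic_of_normal R hRn
  refine ⟨(R : Subgroup A).map A.subtype, ?_, ?_, ?_⟩
  · haveI := hA
    exact ConjAct.normal_of_characteristic_of_normal
  · rintro _ ⟨x, hx, rfl⟩
    exact PEl.coe (PEl.of_mem hx)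
  · intro x hx hxq
    obtain ⟨R', hR'⟩ := (PEl.sub (C := A) (x := ⟨x, hx⟩) hxq).exists_sylow
    obtain ⟨g, rfl⟩ := MulAction.exists_smul_eq A R R'
    have h1 := hRn.conj_mem _ (Cfsg.Agent.H544.CS.mem_smul_sylow.1 hR') g
    have e : g * (g⁻¹ * (⟨x, hx⟩ : A) * g) * g⁻¹ = ⟨x, hx⟩ := by group
    rw [e] at h1
    exact ⟨_, h1, rfl⟩

/-- elements of `[G, P]` whose image is not `p`-central, in the semilinear case -/
theorem semilinear (hp : p.Prime) (hq : q.Prime) (hTp : TA p G) (hNA : NAdj p q G) (L : Lay q G N M)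
    (W : Subgroup G) [hW : W.Normal] (hqW : ¬ q ∣ Nat.card W) (hgl : GL1 W) (hcW : centralizer (W : Set G) ≤ W)
    (hDW : ¬ DD p G ≤ W) : GoodQ q G := by
  obtain ⟨Y, hYn, hCY, ⟨c, hcY, hc⟩, ⟨g, hg⟩, -⟩ := hgl
  haveI := hYn
  haveI : (centralizer (W : Set G)).Normal := Subgroup.normal_centralizer
  have hcomm := comm_mem_of_cyc hg
  have h1 : derivedSeries G 1 ≤ Y := derived_one_le hcomm
  have h2 : DD p G ≤ Y := DD_le fun y g _ => hcomm y g
  have h3 : ∀ x ∈ Y, ∀ y ∈ Y, x * y * x⁻¹ * y⁻¹ ∈ W := by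
    intro x hx y hy
    apply hcW
    obtain ⟨k, hk⟩ := hc x hx
    obtain ⟨l, hl⟩ := hc y hy
    have key : ∀ (x : G) (k : ℤ), x * (c ^ k)⁻¹ ∈ centralizer (W : Set G) →
        (x : G ⧸ centralizer (W : Set G)) = (c : G ⧸ centralizer (W : Set G)) ^ k := by
      intro x k h
      rw [← QuotientGroup.eq_one_iff] at h
      simp only [QuotientGroup.mk_mul, QuotientGroup.mk_inv, QuotientGroup.mk_zpow] at h
      exact mul_inv_eq_one.1 h
    rw [← QuotientGroup.eq_one_iff]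
    simp only [QuotientGroup.mk_mul, QuotientGroup.mk_inv]
    rw [key x k hk, key y l hl, ← zpow_add, add_comm, zpow_add]
    group
  -- the quotient by `W`
  have hne : DD p (G ⧸ W) ≠ ⊥ := by
    rw [Ne, DD_quo_eq_bot hp]; exact hDW
  obtain ⟨x, hx, hxp⟩ := (hTp.quo hp W).exists_notRF hp hne
  obtain ⟨d, hd, rfl⟩ := exists_of_mem_DD hp W hx
  have L₁ := L.quo hq W
  have L₂ := L.sup hq W hqW
  haveI := L₁.nN
  haveI := L₁.nM
  haveI := L₂.nN
  haveI := L₂.nM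
  have h4 : ∀ y ∈ derivedSeries G 1, y ∈ Ker (N ⊔ W) (M ⊔ W) := by
    intro y hy m hm
    have h5 : (y : G ⧸ W) ∈ Ker (N.map (QuotientGroup.mk' W)) (M.map (QuotientGroup.mk' W)) := by
      refine L₁.cent_le hp hq (hTp.quo hp W) (hNA.quo W) hxp ?_
      have h6 := h3 y (h1 hy) d (h2 hd)
      exact comm_mem_iff.1 h6
    have h6 : (m : G ⧸ W) ∈ M.map (QuotientGroup.mk' W) := by
      obtain ⟨m', hm', w, hw, rfl⟩ := mem_sup_of_normal_right.1 hm
      refine ⟨m', hm', ?_⟩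
      show (m' : G ⧸ W) = ((m' * w : G) : G ⧸ W)
      rw [QuotientGroup.mk_mul, (QuotientGroup.eq_one_iff w).2 hw, mul_one]
    obtain ⟨n, hn, h7⟩ := h5 _ h6
    have h8 : (n : G ⧸ W) = ((y * m * y⁻¹ * m⁻¹ : G) : G ⧸ W) := h7
    have h9 : n⁻¹ * (y * m * y⁻¹ * m⁻¹) ∈ W := QuotientGroup.eq.1 h8
    have h10 := mul_mem ((le_sup_left : N ≤ N ⊔ W) hn) ((le_sup_right : W ≤ N ⊔ W) h9)
    rwa [mul_inv_cancel_left] at h10
  exact L₂.good hq h4

/-- **Theorem B, case II** -/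
theorem caseII (hS : AllF.{u}) (bGL : BoxGL.{u}) (bX : BoxX.{u}) (hp : p.Prime) (hq : q.Prime) (hpq : p ≠ q) (n : ℕ) :
    ∀ (G : Type u) [Group G] [Finite G], Nat.card G ≤ n → ∀ N M : Subgroup G, Lay q G N M → TA p G → NAdj p q G →
    DD p G ≠ ⊥ → ¬ q ∣ Nat.card (DD p G) → GoodQ q G := by
  haveI := Fact.mk hp
  haveI := Fact.mk hq
  induction n with
  | zero =>
    intro G _ _ h
    exact absurd (Nat.card_pos (α := G)) (by omega)
  | succ n ih =>
  intro G _ _ hcard N M L hTp hNA hD hqD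
  by_cases hmin : MinN (DD p G)
  · exact base bGL bX hp hq hpq hTp hNA L hqD hmin
  have hnot : ∀ W : Subgroup G, MinN W → ¬ DD p G ≤ W := by
    intro W hW h
    rcases hW.2.2 (DD p G) inferInstance h with h1 | h1
    · exact hD h1
    · exact hmin (h1 ▸ hW)
  -- induction
  have hind : ∀ W : Subgroup G, MinN W → ∃ A : Subgroup G, A.Normal ∧ W ≤ A ∧
      (∀ x ∈ A, ∃ k : ℕ, x ^ q ^ k ∈ W) ∧ ∀ x ∈ derivedSeries G 2, PEl q x → x ∈ A := by
    intro W hW
    haveI := hW.1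
    have hlt : Nat.card (G ⧸ W) ≤ n := by
      have h1 : Nat.card (G ⧸ W) < Nat.card G := by
        have h2 := W.index_mul_card
        have h3 : Nat.card W ≠ 1 := by
          rw [Ne, Subgroup.card_eq_one]; exact hW.2.1
        have h4 : 0 < Nat.card W := Nat.card_pos
        have h5 : 0 < W.index := Nat.pos_of_ne_zero index_ne_zero_of_finite
        rw [← h2]
        show W.index < _
        nlinarith [show 2 ≤ Nat.card W by omega]
      omega
    obtain ⟨A, hA1, hA2, hA3⟩ := ih (G ⧸ W) hlt _ _ (L.quo hq W) (hTp.quo hp W) (hNA.quo W)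
      (by rw [Ne, DD_quo_eq_bot hp]; exact hnot W hW) (by
        rw [← map_DD hp (QuotientGroup.mk'_surjective W)]
        exact fun h => hqD (h.trans (card_map_dvd _ _)))
    refine ⟨A.comap (QuotientGroup.mk' W), hA1.comap _, ?_, ?_, ?_⟩
    · intro w hw
      rw [mem_comap, QuotientGroup.mk'_apply, (QuotientGroup.eq_one_iff w).2 hw]
      exact one_mem _
    · intro x hx
      obtain ⟨k, hk⟩ := hA2 _ hx
      refine ⟨k, ?_⟩
      rw [← QuotientGroup.eq_one_iff, QuotientGroup.mk_pow]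
      exact hk
    · intro x hx hxq
      exact hA3 _ (mem_derived_quo W 2 hx) (hxq.map (QuotientGroup.mk' W))
  obtain ⟨W, hW, hWD⟩ := exists_minN (DD p G) inferInstance hD
  haveI := hW.1
  obtain ⟨A, hAn, hWA, hA2, hA3⟩ := hind W hW
  haveI := hAn
  have hqW : ¬ q ∣ Nat.card W := fun h => hqD (h.trans (card_dvd_of_le hWD))
  have hpW : ¬ p ∣ Nat.card W := fun h => hTp.not_dvd (h.trans (card_dvd_of_le hWD))
  by_cases hcen : ∀ x ∈ A, PEl q x → x ∈ centralizer (W : Set G)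
  · obtain ⟨B, hB1, hB2, hB3⟩ := good_of_cent hq hAn hW.1 hWA (fun x hx => by
      obtain ⟨k, hk⟩ := hA2 x hx
      refine ⟨k, ?_⟩
      rw [← QuotientGroup.mk_pow, QuotientGroup.eq_one_iff]
      exact hk) hqW hcen
    exact ⟨B, hB1, hB2, fun x hx hxq => hB3 x (hA3 x hx hxq) hxq⟩
  push Not at hcen
  obtain ⟨b, hbA, hbq, hbW⟩ := hcen
  by_cases huniq : ∀ W' : Subgroup G, MinN W' → W' = W
  swap
  · push Not at huniq
    obtain ⟨W', hW', hne⟩ := huniq
    obtain ⟨A', hAn', hWA', hA2', hA3'⟩ := hind W' hW'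
    haveI := hW'.1
    have hint : W' ⊓ W = ⊥ := by
      rcases hW.2.2 (W' ⊓ W) inferInstance inf_le_right with h | h
      · exact h
      · rcases hW'.2.2 (W' ⊓ W) inferInstance inf_le_left with h1 | h1
        · exact h1
        · exact absurd (h1.symm.trans h) hne
    refine ⟨A' ⊓ A, inferInstance, fun x hx => ?_, fun x hx hxq => mem_inf.2 ⟨hA3' x hx hxq, hA3 x hx hxq⟩⟩
    obtain ⟨a, ha⟩ := hA2' x (mem_inf.1 hx).1
    obtain ⟨c, hc⟩ := hA2 x (mem_inf.1 hx).2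
    refine ⟨a + c, ?_⟩
    have h1 : x ^ q ^ (a + c) ∈ W' ⊓ W := by
      refine mem_inf.2 ⟨?_, ?_⟩
      · rw [pow_add, pow_mul]; exact pow_mem ha _
      · rw [pow_add, mul_comm, pow_mul]; exact pow_mem hc _
    rw [hint] at h1
    exact mem_bot.1 h1
  -- `W` is the unique minimal normal subgroup
  have hbig : ∀ X : Subgroup G, X.Normal → X ≠ ⊥ → W ≤ X := by
    intro X hX hne
    obtain ⟨W', hW', h⟩ := exists_minN X hX hne
    rw [huniq W' hW'] at h
    exact h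
  haveI hcWn : (centralizer (W : Set G)).Normal := Subgroup.normal_centralizer
  obtain ⟨a₀, ha₀, ha₀1⟩ : ∃ a : G, PEl p a ∧ a ≠ 1 := by
    by_contra hcon
    push Not at hcon
    apply hD
    rw [eq_bot_iff]
    refine Cfsg.Agent.H544.CS.DD_le fun y g hy => ?_
    rw [hcon y hy, mem_bot]; group
  by_cases hab : Ab W
  · -- abelian
    obtain ⟨R⟩ : Nonempty (Sylow q A) := inferInstance
    let R' : Subgroup G := (R : Subgroup A).map A.subtype
    have hR' : ∀ x, x ∈ R' ↔ ∃ h : x ∈ A, (⟨x, h⟩ : A) ∈ R := by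
      intro x
      constructor
      · rintro ⟨y, hy, rfl⟩
        exact ⟨y.2, hy⟩
      · rintro ⟨h, hx⟩
        exact ⟨_, hx, rfl⟩
    let C : Subgroup G := normalizer (R' : Set G)
    have hCA : C ⊔ A = ⊤ := Sylow.normalizer_sup_eq_top R
    have hdecA : ∀ a ∈ A, ∃ w ∈ W, ∃ r ∈ R', a = w * r := by
      intro a ha
      have h1 : W.subgroupOf A ⊔ (R : Subgroup A) = ⊤ := by
        have h2 : IsPGroup q (A ⧸ W.subgroupOf A) := by
          intro x
          obtain ⟨x, rfl⟩ := QuotientGroup.mk_surjective x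
          obtain ⟨k, hk⟩ := hA2 x x.2
          refine ⟨k, ?_⟩
          rw [← QuotientGroup.mk_pow, QuotientGroup.eq_one_iff, mem_subgroupOf]
          exact hk
        obtain ⟨n, hn⟩ := (IsPGroup.iff_card).1 h2
        rw [← Subgroup.index_eq_one]
        have h3 : (W.subgroupOf A ⊔ (R : Subgroup A)).index ∣ q ^ n := by
          rw [← hn]; exact index_dvd_of_le le_sup_left
        have h4 : ¬ q ∣ (W.subgroupOf A ⊔ (R : Subgroup A)).index := fun h =>
          R.not_dvd_index (h.trans (index_dvd_of_le le_sup_right))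
        obtain ⟨k, -, hk⟩ := (Nat.dvd_prime_pow hq).1 h3
        rcases Nat.eq_zero_or_pos k with rfl | hk0
        · rw [hk, pow_zero]
        · exact absurd (hk ▸ dvd_pow_self q hk0.ne') h4
      have h2 : (⟨a, ha⟩ : A) ∈ W.subgroupOf A ⊔ (R : Subgroup A) := by rw [h1]; exact mem_top _
      obtain ⟨w, hw, r, hr, h⟩ := mem_sup_of_normal_left.1 h2
      exact ⟨w, mem_subgroupOf.1 hw, r, (hR' _).2 ⟨r.2, hr⟩, (congrArg Subtype.val h).symm⟩
    have hR'C : R' ≤ C := le_normalizer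
    have hWC : W ⊔ C = ⊤ := by
      rw [eq_top_iff, ← hCA]
      refine sup_le le_sup_right fun a ha => ?_
      obtain ⟨w, hw, r, hr, rfl⟩ := hdecA a ha
      exact mul_mem ((le_sup_left : W ≤ W ⊔ C) hw) ((le_sup_right : C ≤ W ⊔ C) (hR'C hr))
    have hR'W : R' ⊓ W = ⊥ := by
      rw [eq_bot_iff]
      rintro x ⟨hx1, hx2⟩
      obtain ⟨h, hx⟩ := (hR' x).1 hx1
      rw [mem_bot]
      exact (PEl.coe (C := A) (PEl.of_mem hx)).eq_one_of_mem hq hqW hx2
    have hCW : W ⊓ C = ⊥ := by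
      have h1 : W ⊓ centralizer (A : Set G) = ⊥ := by
        haveI : (centralizer (A : Set G)).Normal := Subgroup.normal_centralizer
        rcases hW.2.2 (W ⊓ centralizer (A : Set G)) inferInstance inf_le_left with h | h
        · exact h
        · exfalso
          apply hbW
          rw [mem_centralizer_iff]
          intro w hw
          have h2 : w ∈ W ⊓ centralizer (A : Set G) := by rw [h]; exact hw
          exact (mem_centralizer_iff.1 (mem_inf.1 h2).2 b hbA).symm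
      rw [eq_bot_iff, ← h1]
      rintro w ⟨hw, hwC⟩
      refine mem_inf.2 ⟨hw, mem_centralizer_iff.2 ?_⟩
      intro a ha
      obtain ⟨w', hw', r, hr, rfl⟩ := hdecA a ha
      have h2 : w * r * w⁻¹ * r⁻¹ ∈ R' ⊓ W := by
        refine mem_inf.2 ⟨mul_mem ((mem_normalizer_iff.1 hwC r).1 hr) (inv_mem hr), ?_⟩
        have e : w * r * w⁻¹ * r⁻¹ = w * (r * w⁻¹ * r⁻¹) := by group
        rw [e]
        exact mul_mem hw (hW.1.conj_mem _ (inv_mem hw) r)
      rw [hR'W, mem_bot] at h2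
      have h3 : r * w = w * r := by
        have h4 : w * r * w⁻¹ = r := mul_inv_eq_one.1 h2
        calc r * w = w * r * w⁻¹ * w := by rw [h4]
          _ = w * r := by group
      rw [mul_assoc, h3, ← mul_assoc, hab w' hw' w hw, mul_assoc]
    -- the centraliser of `W`
    have hcW : centralizer (W : Set G) ≤ W := by
      have h1 : C ⊓ centralizer (W : Set G) = ⊥ := by
        by_contra hne
        have hn : (C ⊓ centralizer (W : Set G)).Normal := by
          constructor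
          rintro x ⟨hx1, hx2⟩ g
          obtain ⟨c, hc, w, hw, rfl⟩ := IncGL.decomp_compl hWC g
          have h2 : w * x = x * w := mem_centralizer_iff.1 hx2 w hw
          have e : c * w * x * (c * w)⁻¹ = c * x * c⁻¹ := by
            calc c * w * x * (c * w)⁻¹ = c * (w * x) * w⁻¹ * c⁻¹ := by group
              _ = c * (x * w) * w⁻¹ * c⁻¹ := by rw [h2]
              _ = _ := by group
          rw [e]
          exact mem_inf.2 ⟨mul_mem (mul_mem hc hx1) (inv_mem hc), hcWn.conj_mem _ hx2 c⟩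
        have h3 := hbig _ hn hne
        apply hW.2.1
        rw [eq_bot_iff, ← hCW]
        exact le_inf le_rfl (h3.trans inf_le_left)
      intro x hx
      obtain ⟨c, hc, w, hw, rfl⟩ := IncGL.decomp_compl hWC x
      have hwc : w ∈ centralizer (W : Set G) := mem_centralizer_iff.2 fun v hv => hab v hv w hw
      have h2 : c ∈ C ⊓ centralizer (W : Set G) := mem_inf.2 ⟨hc, by
        have := mul_mem hx (inv_mem hwc)
        rwa [mul_inv_cancel_right] at this⟩
      rw [h1, mem_bot] at h2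
      rw [h2, one_mul]
      exact hw
    obtain ⟨K, hK1, hK2, hK3, hK4, hK5⟩ := hTp.exists_K
    haveI := hK1
    have ha₀W : ∃ v ∈ W, a₀ * v ≠ v * a₀ := by
      by_contra hcon
      push Not at hcon
      apply ha₀1
      exact ha₀.eq_one_of_mem hp hpW (hcW (mem_centralizer_iff.2 fun v hv => (hcon v hv).symm))
    have hgl : GL1 W := by
      refine IncGL.gl1_compl hS hp W C hCW hWC hab hW ?_ K ⊤ (hWD.trans hK5) le_top hK2
        (by rw [relIndex_top_right]; exact hK3) a₀ (mem_top _) ha₀ ha₀W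
      intro u hu g hg huv
      refine (hNA (u * g)).resolve_right fun hrf => ?_
      obtain ⟨Q', hQ'⟩ := (RF_iff hq).1 hrf
      -- a conjugate of `R'` lies in `Q'`
      have hRq : IsPGroup q R' := by
        rintro ⟨x, hx⟩
        obtain ⟨h, hx'⟩ := (hR' x).1 hx
        obtain ⟨k, hk⟩ := PEl.coe (C := A) (PEl.of_mem hx')
        exact ⟨k, Subtype.ext hk⟩
      obtain ⟨Q'', hQ''⟩ := hRq.exists_le_sylow
      obtain ⟨x, rfl⟩ := MulAction.exists_smul_eq G Q'' Q'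
      have hx' : x⁻¹ ∈ C ⊔ W := by rw [sup_comm, hWC]; exact mem_top _
      obtain ⟨c, hc, w, hw, hcw⟩ := mem_sup_of_normal_right.1 hx'
      have hxe : x = w⁻¹ * c⁻¹ := by
        rw [← mul_inv_rev, hcw, inv_inv]
      have h1 : ∀ r ∈ R', w⁻¹ * r * w ∈ (x • Q'' : Sylow q G) := by
        intro r hr
        rw [Cfsg.Agent.H544.CS.mem_smul_sylow]
        have e : x⁻¹ * (w⁻¹ * r * w) * x = c * r * c⁻¹ := by rw [hxe]; group
        rw [e]
        exact hQ'' ((mem_normalizer_iff.1 hc r).1 hr)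
      have hz : w * (u * g) * w⁻¹ ∈ C := by
        have h2 : ∀ r ∈ R', r * (w * (u * g) * w⁻¹) = w * (u * g) * w⁻¹ * r := by
          intro r hr
          have h3 := (mem_CP.1 hQ') _ (h1 r hr)
          calc r * (w * (u * g) * w⁻¹) = w * (w⁻¹ * r * w * (u * g)) * w⁻¹ := by group
            _ = w * (u * g * (w⁻¹ * r * w)) * w⁻¹ := by rw [h3]
            _ = _ := by group
        show _ ∈ normalizer (R' : Set G)
        rw [mem_normalizer_iff]
        intro r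
        constructor
        · intro hr
          rw [← h2 r hr, mul_inv_cancel_right]
          exact hr
        · intro hr
          have h3 := h2 _ hr
          have h4 : w * (u * g) * w⁻¹ * r * (w * (u * g) * w⁻¹)⁻¹ = r := by
            have h5 : w * (u * g) * w⁻¹ * (w * (u * g) * w⁻¹ * r * (w * (u * g) * w⁻¹)⁻¹) =
                w * (u * g) * w⁻¹ * r := by
              rw [← h3]; group
            exact mul_left_cancel h5
          rwa [h4] at hr
      have h2 : w * u * (g * w⁻¹ * g⁻¹) ∈ W ⊓ C := by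
        refine mem_inf.2 ⟨mul_mem (mul_mem hw hu) (hW.1.conj_mem _ (inv_mem hw) g), ?_⟩
        have e : w * u * (g * w⁻¹ * g⁻¹) = w * (u * g) * w⁻¹ * g⁻¹ := by group
        rw [e]
        exact mul_mem hz (inv_mem hg)
      rw [hCW, mem_bot] at h2
      apply huv w hw
      have h3 : u * (g * w⁻¹ * g⁻¹) = w⁻¹ := by
        rw [mul_assoc] at h2
        exact (eq_inv_of_mul_eq_one_right h2)
      have h4 : u = w⁻¹ * (g * w * g⁻¹) := by
        calc u = u * (g * w⁻¹ * g⁻¹) * (g * w * g⁻¹) := by group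
          _ = w⁻¹ * (g * w * g⁻¹) := by rw [h3]
      rw [h4]
      have h5 := hab w⁻¹ (inv_mem hw) (g * w * g⁻¹) (hW.1.conj_mem _ hw g)
      rw [h5]
    exact semilinear hp hq hTp hNA L W hqW hgl hcW (hnot W hW)
  · exfalso
    have hcW : centralizer (W : Set G) = ⊥ := by
      by_contra hne
      apply hab
      intro x hx y hy
      exact mem_centralizer_iff.1 (hbig _ hcWn hne hy) x hx
    obtain ⟨P, Q, hQP, hyQ⟩ := CsGL.exists_pair hp hq hTp hqD ⊤ (mem_top b) hbq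
    have hyP : b ∈ CP P := hQP _ hyQ
    obtain ⟨P', hP'⟩ := ha₀.exists_sylow
    obtain ⟨g, rfl⟩ := MulAction.exists_smul_eq G P P'
    have ha := Cfsg.Agent.H544.CS.mem_smul_sylow.1 hP'
    have ha1 : g⁻¹ * a₀ * g ∉ centralizer (W : Set G) := by
      rw [hcW, mem_bot]
      intro h
      apply ha₀1
      have e : a₀ = g * (g⁻¹ * a₀ * g) * g⁻¹ := by group
      rw [e, h]; group
    obtain ⟨v, hv, h2, h3⟩ := bX G W hW hab p q hp hq hpq hpW hqW (g⁻¹ * a₀ * g) b (PEl.of_mem ha) hbq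
      ((mem_CP.1 hyP) _ ha) ha1 hbW
    exact (hNA v).elim h2 h3

end Cfsg.Agent.H529.Inc
end

-- part: H529/IncD
section
prune_inst 0x30104100440000000018008011003c42b2000092000b000110000002048c084120050620b820060011182a74003a8040010800c90010000020008a0041180080040020c20000b00001000040e881180c00000000000000000000000000000004000000000
set_option linter.all false
open scoped Cfsg.Agent.FastGrp

/-!
# Theorem B of S4256 (helper529), case I: `q` divides `|[G, P]|`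
-/

set_option autoImplicit false
set_option linter.unusedSectionVars false

namespace Cfsg.Agent.H529.Inc

open Subgroup Cfsg.Agent.H532.Thr Cfsg.Agent.H544.CS Cfsg.Agent.H529.CsLin Cfsg.Agent.H529.FSolv

universe u v

variable {G : Type u} [Group G] [Finite G] {p q r t : ℕ} {N M N' M' : Subgroup G}

/-- `P` has no fixed points on `[G, P]` if this is abelian -/
theorem ab_inf_CP (hp : p.Prime) (h : TA p G) (hab : Ab (DD p G)) (P : Sylow p G) {v : G} (hv : v ∈ DD p G)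
    (hv' : v ∈ CP P) : v = 1 := by
  classical
  letI : CommGroup (DD p G) :=
    { (inferInstance : Group (DD p G)) with mul_comm := fun a b => Subtype.ext (hab a a.2 b b.2) }
  let φ : G → (DD p G →* DD p G) := fun y =>
    { toFun := fun d => ⟨y * (d : G) * y⁻¹, (DD_normal (p := p) (G := G)).conj_mem (d : G) d.2 y⟩
      map_one' := Subtype.ext (by
        show y * 1 * y⁻¹ = 1
        group)
      map_mul' := fun a b => Subtype.ext (by
        show y * ((a : G) * b) * y⁻¹ = (y * a * y⁻¹) * (y * b * y⁻¹)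
        group) }
  have hφ : ∀ y d, ((φ y d : DD p G) : G) = y * d * y⁻¹ := fun _ _ => rfl
  haveI : Fintype P := Fintype.ofFinite P
  let θ : DD p G →* DD p G := ∏ y : P, φ y
  have hθ : ∀ d, θ d = ∏ y : P, φ y d := fun d => MonoidHom.finsetProd_apply _ _ d
  have h1 : ∀ (z : P) d, θ (φ z d) = θ d := by
    intro z d
    rw [hθ, hθ]
    refine Fintype.prod_equiv (Equiv.mulRight z) _ _ fun y => Subtype.ext ?_
    rw [hφ, hφ, hφ]
    show (y : G) * (z * d * (z : G)⁻¹) * (y : G)⁻¹ = ((y * z : P) : G) * d * ((y * z : P) : G)⁻¹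
    rw [Subgroup.coe_mul]
    group
  let K : Subgroup G := θ.ker.map (DD p G).subtype
  haveI hK : K.Normal := by
    constructor
    rintro _ ⟨x, hx, rfl⟩ g
    obtain ⟨c, hc, e, he, rfl⟩ := h.decomp hp P g
    refine ⟨φ c x, ?_, ?_⟩
    · show θ (φ c x) = 1
      have h2 : θ (φ c x) = φ c (θ x) := by
        rw [hθ, hθ, map_prod]
        refine Finset.prod_congr rfl fun y _ => Subtype.ext ?_
        rw [hφ, hφ, hφ, hφ]
        have h3 : (y : G) * c = c * y := (mem_CP.1 hc) y y.2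
        have h4 : c⁻¹ * (y : G)⁻¹ = (y : G)⁻¹ * c⁻¹ := by
          rw [← mul_inv_rev, ← mul_inv_rev, h3]
        calc (y : G) * (c * x * c⁻¹) * (y : G)⁻¹ = (y * c) * x * (c⁻¹ * (y : G)⁻¹) := by group
          _ = (c * y) * x * ((y : G)⁻¹ * c⁻¹) := by rw [h3, h4]
          _ = _ := by group
      rw [h2, show θ x = 1 from hx, map_one]
    · show c * (x : G) * c⁻¹ = c * e * x * (c * e)⁻¹
      have h2 : e * (x : G) = x * e := hab e he x x.2
      calc c * (x : G) * c⁻¹ = c * (x * e) * e⁻¹ * c⁻¹ := by group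
        _ = c * (e * x) * e⁻¹ * c⁻¹ := by rw [h2]
        _ = _ := by group
  have h2 : DD p G ≤ K := by
    refine h.DD_le_of hp P fun y hy d hd => ?_
    refine ⟨φ y ⟨d, hd⟩ * (⟨d, hd⟩ : DD p G)⁻¹, ?_, rfl⟩
    show θ (φ y ⟨d, hd⟩ * (⟨d, hd⟩ : DD p G)⁻¹) = 1
    rw [map_mul, map_inv, h1 ⟨y, hy⟩, mul_inv_cancel]
  obtain ⟨x, hx, hxv⟩ := h2 hv
  have hxv' : x = ⟨v, hv⟩ := Subtype.ext hxv
  have h3 : θ x = x ^ Fintype.card P := by
    rw [hθ, Finset.prod_congr rfl (g := fun _ => x) (fun y _ => Subtype.ext ?_), Finset.prod_const, Finset.card_univ]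
    rw [hφ, hxv']
    show (y : G) * v * (y : G)⁻¹ = v
    rw [(mem_CP.1 hv') y y.2, mul_inv_cancel_right]
  rw [show θ x = 1 from hx] at h3
  haveI := Fact.mk hp
  obtain ⟨n, hn⟩ := (IsPGroup.iff_card).1 P.isPGroup'
  have h4 : PEl p v := by
    refine ⟨n, ?_⟩
    have h5 := congrArg Subtype.val h3.symm
    rw [hxv', ← Nat.card_eq_fintype_card] at h5
    have h6 : v ^ Nat.card P = 1 := h5
    rw [← hn]; exact h6
  exact h4.eq_one_of_mem hp h.not_dvd hv

/-- the full layer -/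
theorem exists_full (hq : q.Prime) (L : Lay q G N M) : ∃ N₀ M₀ : Subgroup G, Lay q G N₀ M₀ ∧
    ∀ X : Subgroup G, X.Normal → ¬ q ∣ Nat.card X → X ≤ N₀ := by
  obtain ⟨N₀, h3, h4⟩ := (Set.toFinite {R : Subgroup G | R.Normal ∧ ¬ q ∣ Nat.card R}).exists_le_maximal
    (a := N) ⟨L.nN, L.cop⟩
  haveI := h4.1.1
  have L₁ := L.sup hq N₀ h4.1.2
  rw [sup_eq_right.2 h3] at L₁
  refine ⟨N₀, M ⊔ N₀, L₁, fun X hX hXq => ?_⟩
  have L₂ := L₁.sup hq X hXq
  exact le_sup_right.trans (h4.2 ⟨L₂.nN, L₂.cop⟩ le_sup_left)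

theorem Lay.Ker_le (hq : q.Prime) (L : Lay q G N M) [N.Normal] [M.Normal]
    (hfull : ∀ X : Subgroup G, X.Normal → ¬ q ∣ Nat.card X → X ≤ N) : Ker N M ≤ M := by
  obtain ⟨K₀, hK0, h1, ⟨n, h2⟩, h3⟩ := L.ta_Ker hq
  have hK : ∀ x (hx : x ∈ Ker N M), ¬ q ∣ orderOf x → (⟨x, hx⟩ : Ker N M) ∈ K₀ := by
    intro x hx hxq
    rw [← QuotientGroup.eq_one_iff, ← orderOf_eq_one_iff]
    have h4 : orderOf ((⟨x, hx⟩ : Ker N M) : Ker N M ⧸ K₀) ∣ q ^ n := by
      rw [← h2]; exact orderOf_dvd_natCard _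
    have h5 : orderOf ((⟨x, hx⟩ : Ker N M) : Ker N M ⧸ K₀) ∣ orderOf x := by
      have h6 := orderOf_map_dvd (QuotientGroup.mk' K₀) (⟨x, hx⟩ : Ker N M)
      rwa [Subgroup.orderOf_mk] at h6
    exact Nat.eq_one_of_dvd_coprimes (Nat.Coprime.pow_left n ((Nat.Prime.coprime_iff_not_dvd hq).2 hxq)) h4 h5
  have hK' : ∀ x : Ker N M, x ∈ K₀ → ¬ q ∣ orderOf (x : G) := by
    intro x hx h
    apply h1
    have h4 := orderOf_dvd_natCard (⟨x, hx⟩ : K₀)
    rw [Subgroup.orderOf_mk, ← Subgroup.orderOf_coe] at h4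
    exact h.trans h4
  have hn : (K₀.map (Ker N M).subtype).Normal := by
    constructor
    rintro _ ⟨x, hx, rfl⟩ g
    have h4 : g * (x : G) * g⁻¹ ∈ Ker N M := Ker_normal.conj_mem _ x.2 g
    refine ⟨⟨_, h4⟩, hK _ h4 ?_, rfl⟩
    rw [show orderOf (g * (x : G) * g⁻¹) = orderOf (x : G) from
      orderOf_injective (MulAut.conj g).toMonoidHom (MulAut.conj g).injective (x : G)]
    exact hK' x hx
  have h5 : K₀.map (Ker N M).subtype ≤ N := hfull _ hn (by
    rw [card_map_of_injective (Ker N M).subtype_injective]; exact h1)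
  intro x hx
  obtain ⟨a, b, h6, h7, h8⟩ := exists_parts hq x
  rw [h6]
  exact mul_mem (L.pel_mem hq h7) (L.le (h5 ⟨⟨x ^ b, pow_mem hx b⟩, hK _ _ h8, rfl⟩))

/-- **Theorem B, case I** -/
theorem caseI (hp : p.Prime) (hq : q.Prime) (hTp : TA p G) (hNA : NAdj p q G) (L : Lay q G N M)
    (hqD : q ∣ Nat.card (DD p G)) (hQab : ∀ P : Sylow q G, ∀ x ∈ P, ∀ y ∈ P, x * y = y * x) : GoodQ q G := by
  haveI := Fact.mk hp
  haveI := Fact.mk hq
  obtain ⟨N₀, M₀, L₀, hfull⟩ := exists_full hq L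
  haveI := L₀.nN
  haveI := L₀.nM
  have hKM : Ker N₀ M₀ ≤ M₀ := L₀.Ker_le hq hfull
  have hMK : M₀ ≤ Ker N₀ M₀ := L₀.le_Ker hq hQab
  have hDK : DD p G ≤ Ker N₀ M₀ := L₀.DD_le hp hq hTp hNA
  have hTp1 := hTp.quo hp N₀
  have hab1 : Ab (DD p (G ⧸ N₀)) := by
    intro x hx y hy
    obtain ⟨d, hd, rfl⟩ := exists_of_mem_DD hp N₀ hx
    obtain ⟨e, he, rfl⟩ := exists_of_mem_DD hp N₀ hy
    exact comm_mem_iff.1 (hDK hd e (hKM (hDK he)))
  have hnot : ∀ x ∈ DD p G ⊔ N₀, x ∉ N₀ → ¬ RF p (x : G ⧸ N₀) := by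
    intro x hx hxN hrf
    obtain ⟨P, hP⟩ := (RF_iff hp).1 hrf
    apply hxN
    rw [← QuotientGroup.eq_one_iff]
    refine ab_inf_CP hp hTp1 hab1 P ?_ hP
    obtain ⟨d, hd, n, hn, rfl⟩ := mem_sup_of_normal_right.1 hx
    rw [QuotientGroup.mk_mul, (QuotientGroup.eq_one_iff n).2 hn, mul_one]
    exact mk_mem_DD hp N₀ hd
  obtain ⟨x₀, hx₀⟩ := exists_prime_orderOf_dvd_card' (G := DD p G) q hqD
  have hx₀q : PEl q (x₀ : G) := ⟨1, by
    rw [pow_one, ← hx₀, ← Subgroup.coe_pow, pow_orderOf_eq_one]; rfl⟩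
  have hx₀1 : (x₀ : G) ≠ 1 := by
    intro h
    have h1 : x₀ = 1 := Subtype.ext h
    rw [h1, orderOf_one] at hx₀
    exact hq.one_lt.ne hx₀
  obtain ⟨Q, hQ⟩ := hx₀q.exists_sylow
  have hQM : (Q : Subgroup G) ≤ M₀ := fun x hx => L₀.pel_mem hq (PEl.of_mem hx)
  have hQN : ∀ x ∈ Q, x ≠ 1 → x ∉ N₀ := fun x hx hx1 hxN =>
    hx1 ((PEl.of_mem hx).eq_one_of_mem hq L₀.cop hxN)
  let Q₁ : Subgroup G := (Q : Subgroup G) ⊓ (DD p G ⊔ N₀)
  have hx₀Q : (x₀ : G) ∈ Q₁ := mem_inf.2 ⟨hQ, (le_sup_left : DD p G ≤ DD p G ⊔ N₀) x₀.2⟩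
  by_cases hcyc : IsCyclic Q₁
  · obtain ⟨⟨c, hc⟩, hgen⟩ := hcyc.exists_generator
    have hc1 : c ≠ 1 := by
      rintro rfl
      obtain ⟨k, hk⟩ := hgen ⟨x₀, hx₀Q⟩
      apply hx₀1
      have h1 := congrArg Subtype.val hk
      rw [← h1]
      show ((⟨1, hc⟩ : Q₁) ^ k : Q₁).1 = 1
      rw [show (⟨1, hc⟩ : Q₁) = 1 from rfl, one_zpow]; rfl
    have hcN : c ∉ N₀ := hQN c (mem_inf.1 hc).1 hc1
    have hspan : ∀ z ∈ DD p G ⊔ N₀, ∃ k : ℤ, (z : G ⧸ N₀) = (c : G ⧸ N₀) ^ k := by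
      intro z hz
      have hzM : z ∈ M₀ := (sup_le (hDK.trans hKM) L₀.le) hz
      obtain ⟨n, hn, u, hu, rfl⟩ := L₀.decomp hq Q hzM
      have hu1 : u ∈ Q₁ := mem_inf.2 ⟨hu, by
        have := mul_mem (inv_mem ((le_sup_right : N₀ ≤ DD p G ⊔ N₀) hn)) hz
        rwa [inv_mul_cancel_left] at this⟩
      obtain ⟨k, hk⟩ := hgen ⟨u, hu1⟩
      refine ⟨k, ?_⟩
      have h1 : c ^ k = u := congrArg Subtype.val hk
      rw [QuotientGroup.mk_mul, (QuotientGroup.eq_one_iff n).2 hn, one_mul, ← h1, QuotientGroup.mk_zpow]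
    have hconj : ∀ g : G, ∃ k : ℤ, (g : G ⧸ N₀) * (c : G ⧸ N₀) * (g : G ⧸ N₀)⁻¹ = (c : G ⧸ N₀) ^ k := by
      intro g
      obtain ⟨k, hk⟩ := hspan (g * c * g⁻¹) ((inferInstance : (DD p G ⊔ N₀).Normal).conj_mem _ (mem_inf.1 hc).2 g)
      refine ⟨k, ?_⟩
      rw [← hk]
      simp only [QuotientGroup.mk_mul, QuotientGroup.mk_inv]
    have hL₁ := L₀.quo hq N₀
    haveI := hL₁.nN
    haveI := hL₁.nM
    refine L₀.good hq (derived_one_le fun g h => ?_)
    intro m hm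
    have hmem : ((g * h * g⁻¹ * h⁻¹ : G) : G ⧸ N₀) ∈
        Ker (N₀.map (QuotientGroup.mk' N₀)) (M₀.map (QuotientGroup.mk' N₀)) := by
      have hc' : h * g * c * (h * g)⁻¹ ∈ DD p G ⊔ N₀ :=
        (inferInstance : (DD p G ⊔ N₀).Normal).conj_mem _ (mem_inf.1 hc).2 (h * g)
      have hc'N : h * g * c * (h * g)⁻¹ ∉ N₀ := by
        intro h1
        apply hcN
        have h2 := L₀.nN.conj_mem _ h1 (h * g)⁻¹
        have e : (h * g)⁻¹ * (h * g * c * (h * g)⁻¹) * (h * g)⁻¹⁻¹ = c := by group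
        rwa [e] at h2
      refine hL₁.cent_le hp hq hTp1 (hNA.quo N₀) (hnot _ hc' hc'N) ?_
      obtain ⟨i, hi⟩ := hconj g
      obtain ⟨j, hj⟩ := hconj h
      simp only [QuotientGroup.mk_mul, QuotientGroup.mk_inv]
      -- both sides
      have h1 : (g : G ⧸ N₀) * ((h : G ⧸ N₀) * (c : G ⧸ N₀) * (h : G ⧸ N₀)⁻¹) * (g : G ⧸ N₀)⁻¹ =
          (h : G ⧸ N₀) * ((g : G ⧸ N₀) * (c : G ⧸ N₀) * (g : G ⧸ N₀)⁻¹) * (h : G ⧸ N₀)⁻¹ := by
        rw [hi, hj, ← conj_zpow, hi, ← conj_zpow, hj, ← zpow_mul, ← zpow_mul, mul_comm]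
      calc (g : G ⧸ N₀) * h * (g : G ⧸ N₀)⁻¹ * (h : G ⧸ N₀)⁻¹ *
            ((h : G ⧸ N₀) * g * c * ((h : G ⧸ N₀) * g)⁻¹) =
            ((g : G ⧸ N₀) * ((h : G ⧸ N₀) * (c : G ⧸ N₀) * (h : G ⧸ N₀)⁻¹) * (g : G ⧸ N₀)⁻¹) *
              ((g : G ⧸ N₀) * h * (g : G ⧸ N₀)⁻¹ * (h : G ⧸ N₀)⁻¹) := by group
        _ = ((h : G ⧸ N₀) * ((g : G ⧸ N₀) * (c : G ⧸ N₀) * (g : G ⧸ N₀)⁻¹) * (h : G ⧸ N₀)⁻¹) *
              ((g : G ⧸ N₀) * h * (g : G ⧸ N₀)⁻¹ * (h : G ⧸ N₀)⁻¹) := by rw [h1]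
        _ = _ := by group
    obtain ⟨n, hn, h7⟩ := hmem (m : G ⧸ N₀) ⟨m, hm, rfl⟩
    have h8 : (n : G ⧸ N₀) = ((g * h * g⁻¹ * h⁻¹ * m * (g * h * g⁻¹ * h⁻¹)⁻¹ * m⁻¹ : G) : G ⧸ N₀) := h7
    have h9 := QuotientGroup.eq.1 h8
    have h10 := mul_mem hn h9
    rwa [mul_inv_cancel_left] at h10
  · -- noncyclic
    have hTM : TA q M₀ := by
      refine ta_of_comm hq (L₀.sub hq M₀) fun g m hm => ?_
      rw [mem_subgroupOf]
      exact hMK g.2 m (mem_subgroupOf.1 hm)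
    have hDM : ∀ x ∈ DD q M₀, (x : G) ∈ N₀ := by
      have h1 : DD q M₀ ≤ N₀.subgroupOf M₀ := Cfsg.Agent.H544.CS.DD_le fun y g _ => by
        rw [mem_subgroupOf]
        exact hMK y.2 g g.2
      exact fun x hx => mem_subgroupOf.1 (h1 hx)
    have hcent : ∀ a ∈ Q₁, a ≠ 1 → ∀ n ∈ N₀, n * a = a * n → ∀ u ∈ Q, u * n = n * u := by
      intro a ha ha1 n hn hna u hu
      have haQ := (mem_inf.1 ha).1
      have haM := hQM haQ
      have haN := hQN a haQ ha1
      have h1 : (⟨n, L₀.le hn⟩ : M₀) ∈ CP (Q.subtype hQM) := by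
        refine hTM.coset hq (Q.subtype hQM) (z := ⟨a, haM⟩) ?_ ?_ (Subtype.ext hna)
        · rw [mem_CP]
          intro y hy
          exact Subtype.ext (hQab Q y hy a haQ)
        · intro x hx
          apply rf_sub
          refine (hNA (x : G)).resolve_left fun hrf => ?_
          apply hnot a (mem_inf.1 ha).2 haN
          have h2 := rf_mk hrf N₀
          have h3 : (a : G ⧸ N₀) = (x : G) := QuotientGroup.eq.2 (hDM _ hx)
          rwa [← h3] at h2
      have h2 := (mem_CP.1 h1) ⟨u, hQM hu⟩ hu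
      exact congrArg Subtype.val h2
    haveI : IsMulCommutative Q₁ := ⟨⟨fun a b => Subtype.ext
      (hQab Q a (mem_inf.1 a.2).1 b (mem_inf.1 b.2).1)⟩⟩
    have hQ₁p : IsPGroup q Q₁ := Q.isPGroup'.to_le inf_le_left
    have hcop : (Nat.card Q₁).Coprime (Nat.card N₀) := by
      obtain ⟨n, hn⟩ := (IsPGroup.iff_card).1 hQ₁p
      rw [hn]
      exact Nat.Coprime.pow_left n ((Nat.Prime.coprime_iff_not_dvd hq).2 L₀.cop)
    have h1 := Cfsg.Agent.S0058.result Q₁ N₀ hcyc (by rw [normalizer_eq_top]; exact le_top) hcop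
    have h2 : N₀ ≤ centralizer (Q : Set G) := by
      rw [← h1]
      refine iSup₂_le fun a ha => ?_
      rintro n ⟨hn, hna⟩
      rw [mem_centralizer_iff]
      intro u hu
      exact hcent a ha.1 ha.2 n hn (mem_centralizer_singleton_iff.1 hna) u hu
    have hQn : ∀ x : G, PEl q x → x ∈ Q := by
      intro x hx
      obtain ⟨n, hn, u, hu, rfl⟩ := L₀.decomp hq Q (L₀.pel_mem hq hx)
      have h3 : Commute n u := ((mem_centralizer_iff.1 (h2 hn)) u hu).symm
      obtain ⟨i, hi⟩ := hx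
      obtain ⟨j, hj⟩ : PEl q u := PEl.of_mem hu
      have h4 : n = 1 := by
        refine PEl.eq_one_of_mem (p := q) hq ⟨i + j, ?_⟩ L₀.cop hn
        have h5 : (n * u) ^ q ^ (i + j) = 1 := by rw [pow_add, pow_mul, hi, one_pow]
        rw [h3.mul_pow] at h5
        have h6 : u ^ q ^ (i + j) = 1 := by rw [pow_add, mul_comm, pow_mul, hj, one_pow]
        rwa [h6, mul_one] at h5
      rw [h4, one_mul]
      exact hu
    refine ⟨Q, ⟨fun x hx g => hQn _ ((PEl.of_mem hx).conj g)⟩, fun x hx => PEl.of_mem hx, fun x _ hx => hQn x hx⟩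

/-- **Theorem B** -/
theorem thmB (hS : AllF.{u}) (bGL : BoxGL.{u}) (bX : BoxX.{u}) (hp : p.Prime) (hq : q.Prime) (hpq : p ≠ q)
    (hTp : TA p G) (hNA : NAdj p q G) (hvp : ∃ x : G, ¬ RF p x) (L : Lay q G N M)
    (hQab : ∀ P : Sylow q G, ∀ x ∈ P, ∀ y ∈ P, x * y = y * x) : GoodQ q G := by
  by_cases hqD : q ∣ Nat.card (DD p G)
  · exact caseI hp hq hTp hNA L hqD hQab
  · exact caseII hS bGL bX hp hq hpq (Nat.card G) G le_rfl N M L hTp hNA (ne_bot_of_vertex hp hvp) hqD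

end Cfsg.Agent.H529.Inc
end

-- part: H529/IncE
section
prune_inst 0x10104500510000000018008011002020000000900000000130400002090c0040a001000008000400105c2a8000000020020800c040000000000000000004012000000000903c0c00000000002081180c00000000000000000000000000000004000000000
set_option linter.all false
open scoped Cfsg.Agent.FastGrp

/-!
# S4256 (helper529): the Hall subgroup and the assembly
-/

set_option autoImplicit false
set_option linter.unusedSectionVars false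

namespace Cfsg.Agent.H529.Inc

open Subgroup Cfsg.Agent.H532.Thr Cfsg.Agent.H544.CS Cfsg.Agent.H529.CsLin Cfsg.Agent.H529.FSolv

universe u v

section

variable {G : Type u} [Group G] [Finite G] {p q r t : ℕ} {N M N' M' : Subgroup G}

/-- an element belongs to a subgroup if its primary parts do -/
theorem mem_of_parts {H : Subgroup G} (x : G) (h : ∀ (r k : ℕ), r.Prime → PEl r (x ^ k) → x ^ k ∈ H) : x ∈ H := by
  obtain ⟨n, hn⟩ : ∃ n, orderOf x ≤ n := ⟨_, le_rfl⟩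
  induction n generalizing x with
  | zero => exact absurd (orderOf_pos x) (by omega)
  | succ n ih =>
    by_cases h1 : orderOf x = 1
    · rw [orderOf_eq_one_iff.1 h1]; exact one_mem _
    obtain ⟨r, hr, hrd⟩ := Nat.exists_prime_and_dvd h1
    obtain ⟨a, b, h2, h3, h4⟩ := exists_parts hr x
    have h5 : x ^ b ∈ H := by
      refine ih (x ^ b) (fun s k hs hk => ?_) ?_
      · rw [← pow_mul] at hk ⊢
        exact h s (b * k) hs hk
      · have h6 : orderOf (x ^ b) ∣ orderOf x := orderOf_pow_dvd b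
        have h7 : orderOf (x ^ b) ≠ orderOf x := fun h => h4 (h ▸ hrd)
        have h8 := Nat.le_of_dvd (orderOf_pos x) h6
        omega
    rw [h2]
    exact mul_mem (h r a hr h3) h5

/-- a minimal normal subgroup is a `q`-group or a `q'`-group -/
theorem Lay.minN (hq : q.Prime) (L : Lay q G N M) {W : Subgroup G} (hW : MinN W) :
    (∃ n, Nat.card W = q ^ n) ∨ ¬ q ∣ Nat.card W := by
  haveI := hW.1
  haveI := L.nN
  haveI := L.nM
  rcases hW.2.2 (W ⊓ N) inferInstance inf_le_left with h1 | h1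
  · rcases hW.2.2 (W ⊓ M) inferInstance inf_le_left with h2 | h2
    · right
      intro h
      have h3 : Nat.card W ∣ M.index := by
        have h4 : M.relIndex W = Nat.card W := by
          have h5 : M.subgroupOf W = ⊥ := by
            rw [subgroupOf_eq_bot, disjoint_iff, inf_comm]; exact h2
          rw [relIndex, h5, index_bot]
        rw [← h4]
        exact relIndex_dvd_index_of_normal M W
      exact L.idx (h.trans h3)
    · left
      have h3 : W ≤ M := by rw [← h2]; exact inf_le_right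
      have h4 : N.relIndex W = Nat.card W := by
        have h5 : N.subgroupOf W = ⊥ := by
          rw [subgroupOf_eq_bot, disjoint_iff, inf_comm]; exact h1
        rw [relIndex, h5, index_bot]
      have h5 : N.relIndex W ∣ N.relIndex M := by
        rw [← relIndex_subgroupOf (H := N) h3]
        exact relIndex_dvd_index_of_normal (N.subgroupOf M) (W.subgroupOf M)
      obtain ⟨n, hn⟩ := L.pow
      rw [h4, hn] at h5
      obtain ⟨m, -, hm⟩ := (Nat.dvd_prime_pow hq).1 h5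
      exact ⟨m, hm⟩
  · right
    have h3 : W ≤ N := by rw [← h1]; exact inf_le_right
    exact fun h => L.cop (h.trans (card_dvd_of_le h3))

end

/-- Hall subgroups exist -/
theorem exists_hall (π : Set ℕ) (n : ℕ) : ∀ (G : Type u) [Group G] [Finite G], Nat.card G ≤ n →
    (∀ q ∈ π, q.Prime ∧ ∃ N M : Subgroup G, Lay q G N M) → ∃ H : Subgroup G, Cfsg.IsPiHall π H := by
  induction n with
  | zero =>
    intro G _ _ h
    exact absurd (Nat.card_pos (α := G)) (by omega)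
  | succ n ih =>
  intro G _ _ hcard hL
  by_cases htriv : (⊤ : Subgroup G) = ⊥
  · refine ⟨⊥, fun p hp h => ?_, fun p hp _ h => ?_⟩
    · rw [card_bot] at h
      exact absurd (Nat.dvd_one.1 h) hp.ne_one
    · rw [← htriv, index_top] at h
      exact hp.ne_one (Nat.dvd_one.1 h)
  obtain ⟨W, hW, -⟩ := exists_minN (⊤ : Subgroup G) inferInstance htriv
  haveI := hW.1
  have hlt : Nat.card (G ⧸ W) ≤ n := by
    have h1 : Nat.card (G ⧸ W) < Nat.card G := by
      have h2 := W.index_mul_card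
      have h3 : Nat.card W ≠ 1 := by
        rw [Ne, Subgroup.card_eq_one]; exact hW.2.1
      have h4 : 0 < Nat.card W := Nat.card_pos
      have h5 : 0 < W.index := Nat.pos_of_ne_zero index_ne_zero_of_finite
      rw [← h2]
      show W.index < _
      nlinarith [show 2 ≤ Nat.card W by omega]
    omega
  obtain ⟨H, hH1, hH2⟩ := ih (G ⧸ W) hlt fun q hq => by
    obtain ⟨hq1, N, M, L⟩ := hL q hq
    exact ⟨hq1, _, _, L.quo hq1 W⟩
  let X : Subgroup G := H.comap (QuotientGroup.mk' W)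
  have hs := QuotientGroup.mk'_surjective W
  have hWX : W ≤ X := by
    intro w hw
    show (w : G ⧸ W) ∈ H
    rw [(QuotientGroup.eq_one_iff w).2 hw]
    exact one_mem _
  have hXi : X.index = H.index := index_comap_of_surjective H hs
  have hXW : W.relIndex X = Nat.card H := by
    have h1 : W.relIndex X * X.index = W.index := relIndex_mul_index hWX
    have h2 : Nat.card H * H.index = W.index := H.card_mul_index
    rw [hXi, ← h2] at h1
    exact Nat.eq_of_mul_eq_mul_right (Nat.pos_of_ne_zero index_ne_zero_of_finite) h1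
  have hXc : Nat.card X = Nat.card H * Nat.card W := by
    rw [← hXW]; exact (CsGL.relIndex_mul_card W X hWX).symm
  by_cases hπ : ∃ q ∈ π, q ∣ Nat.card W
  · obtain ⟨q, hqπ, hqW⟩ := hπ
    obtain ⟨hq, N, M, L⟩ := hL q hqπ
    obtain ⟨m, hm⟩ := (L.minN hq hW).resolve_right (not_not.2 hqW)
    refine ⟨X, fun p hp h => ?_, fun p hp hpπ h => ?_⟩
    · rw [hXc] at h
      rcases (Nat.Prime.dvd_mul hp).1 h with h1 | h1
      · exact hH1 p hp h1
      · rw [hm] at h1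
        rw [(Nat.prime_dvd_prime_iff_eq hp hq).1 (hp.dvd_of_dvd_pow h1)]
        exact hqπ
    · rw [hXi] at h
      exact hH2 p hp hpπ h
  · push Not at hπ
    have hcop : (Nat.card (W.subgroupOf X)).Coprime (W.subgroupOf X).index := by
      have h1 : Nat.card (W.subgroupOf X) = Nat.card W := Nat.card_congr (subgroupOfEquivOfLe hWX).toEquiv
      have h2 : (W.subgroupOf X).index = Nat.card H := hXW
      rw [h1, h2]
      refine Nat.Coprime.symm (Nat.coprime_of_dvd fun k hk h3 h4 => ?_)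
      exact hπ k (hH1 k hk h3) h4
    obtain ⟨Y, hY⟩ := exists_right_complement'_of_coprime hcop
    have hYc : Nat.card Y = Nat.card H := by
      have h1 := hY.symm.index_eq_card
      rw [← h1]; exact hXW
    have hYi : Y.index = Nat.card W := by
      rw [hY.index_eq_card]
      exact Nat.card_congr (subgroupOfEquivOfLe hWX).toEquiv
    refine ⟨Y.map X.subtype, fun p hp h => ?_, fun p hp hpπ h => ?_⟩
    · rw [card_map_of_injective X.subtype_injective, hYc] at h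
      exact hH1 p hp h
    · rw [index_map_subtype, hYi, hXi] at h
      rcases (Nat.Prime.dvd_mul hp).1 h with h1 | h1
      · exact hπ p hpπ h1
      · exact hH2 p hp hpπ h1

section

variable {G : Type u} [Group G] [Finite G] {p q r t : ℕ} {N M N' M' : Subgroup G}

/-- type A: the trivial layer -/
theorem lay_of_ta (h : TA q G) : ∃ N : Subgroup G, Lay q G N ⊤ ∧ ∀ x y : G, x * y * x⁻¹ * y⁻¹ ∈ N := by
  obtain ⟨K, hK, h1, h2, h3⟩ := h
  refine ⟨K, ⟨hK, inferInstance, le_top, h1, by rw [relIndex_top_right]; exact h2, fun h => ?_⟩, h3⟩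
  rw [index_top] at h
  by_cases hq1 : q = 1
  · rw [hq1] at h1
    exact h1 (one_dvd _)
  · exact hq1 (Nat.dvd_one.1 h)

/-- the layer from S4307 -/
theorem lay_of_concl (hp : p.Prime) (hq : q.Prime) (hTp : TA p G) {K L : Subgroup G} (hK : K.Normal) (hL : L.Normal)
    (hKL : K ≤ L) (h1 : ¬ p ∣ Nat.card K) (h2 : ¬ q ∣ Nat.card K) (h4 : ¬ q ∣ L.index)
    (h5 : ∀ r : ℕ, r.Prime → r ∣ K.relIndex L → r = p ∨ r = q) : ∃ M, Lay q G K M := by
  by_cases hpq : p = q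
  · -- degenerate: `L / K` is a `q`-group
    subst hpq
    have h6 : K.relIndex L ≠ 0 := (K.subgroupOf L).index_ne_zero_of_finite
    exact ⟨L, hK, hL, hKL, h2, ⟨_, Nat.eq_prime_pow_of_unique_prime_dvd h6
      (fun {d} hd hd' => (h5 d hd hd').elim id id)⟩, h4⟩
  obtain ⟨P, hP, hP1, ⟨n, hP2⟩, hP3⟩ := hTp
  haveI := hP
  haveI := hK
  haveI := hL
  have hKP : K ≤ P := by
    intro x hx
    rw [← QuotientGroup.eq_one_iff, ← orderOf_eq_one_iff]
    have h6 : orderOf (x : G ⧸ P) ∣ p ^ n := by rw [← hP2]; exact orderOf_dvd_natCard _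
    have h7 : orderOf (x : G ⧸ P) ∣ Nat.card K := by
      refine (orderOf_map_dvd (QuotientGroup.mk' P) x).trans ?_
      have := orderOf_dvd_natCard (⟨x, hx⟩ : K)
      rwa [Subgroup.orderOf_mk] at this
    exact Nat.eq_one_of_dvd_coprimes (Nat.Coprime.pow_left n ((Nat.Prime.coprime_iff_not_dvd hp).2 h1)) h6 h7
  refine ⟨L ⊓ P, hK, inferInstance, le_inf hKL hKP, h2, ?_, fun h => ?_⟩
  · have h6 : K.relIndex (L ⊓ P) ∣ K.relIndex L := by
      rw [← relIndex_subgroupOf (H := K) (inf_le_left : L ⊓ P ≤ L)]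
      exact relIndex_dvd_index_of_normal (K.subgroupOf L) ((L ⊓ P).subgroupOf L)
    have h7 : K.relIndex (L ⊓ P) ∣ Nat.card P := by
      have h8 : K.relIndex (L ⊓ P) ∣ Nat.card ↥(L ⊓ P) := Subgroup.index_dvd_card _
      exact h8.trans (card_dvd_of_le inf_le_right)
    have h8 : K.relIndex (L ⊓ P) ≠ 0 := (K.subgroupOf (L ⊓ P)).index_ne_zero_of_finite
    refine ⟨_, Nat.eq_prime_pow_of_unique_prime_dvd h8 fun {d} hd hd' => ?_⟩
    rcases h5 d hd (hd'.trans h6) with h9 | h9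
    · exact absurd (h9 ▸ hd'.trans h7) hP1
    · exact h9
  · have h6 : (L ⊓ P).relIndex L * L.index = (L ⊓ P).index := relIndex_mul_index inf_le_left
    rw [← h6] at h
    rcases (Nat.Prime.dvd_mul hq).1 h with h7 | h7
    · have h8 : (L ⊓ P).relIndex L ∣ P.index := by
        rw [inf_relIndex_left]
        exact relIndex_dvd_index_of_normal P L
      rw [hP2] at h8
      exact hpq ((Nat.prime_dvd_prime_iff_eq hq hp).1 (hq.dvd_of_dvd_pow (h7.trans h8))).symm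
    · exact h4 h7

end

end Cfsg.Agent.H529.Inc
end

-- part: H529/IncF
section
set_option linter.all false
open scoped Cfsg.Agent.FastGrp

/-!
# S4256 (helper529): the assembly, modulo S4307
-/

set_option autoImplicit false
set_option linter.unusedSectionVars false

namespace Cfsg.Agent.H529.Inc

open Subgroup Cfsg.Agent.H532.Thr Cfsg.Agent.H544.CS Cfsg.Agent.H529.CsLin Cfsg.Agent.H529.FSolv

universe u v

/-- the conclusion of S4307 -/
def C4307 (p q : ℕ) (G : Type*) [Group G] : Prop :=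
  (∀ P : Sylow p G, IsMulCommutative (P : Subgroup G)) ∧ (∀ Q : Sylow q G, IsMulCommutative (Q : Subgroup G)) ∧
    ∃ K L : Subgroup G, K.Normal ∧ L.Normal ∧ K ≤ L ∧ ¬ p ∣ Nat.card K ∧ ¬ q ∣ Nat.card K ∧ ¬ p ∣ L.index ∧ ¬ q ∣ L.index ∧
      ∀ r : ℕ, r.Prime → r ∣ K.relIndex L → r = p ∨ r = q

/-- an incomplete vertex -/
def IncV (q : ℕ) (G : Type*) [Group G] : Prop :=
  q.Prime ∧ (∃ x : G, ¬ RF q x) ∧ ∃ p : ℕ, p.Prime ∧ (∃ x : G, ¬ RF p x) ∧ p ≠ q ∧ NAdj p q G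

variable {G : Type u} [Group G] [Finite G] {p q r t : ℕ} {N M N' M' : Subgroup G}

/-- data for an incomplete vertex -/
theorem IncV.cases (h4307 : ∀ p q : ℕ, p.Prime → q.Prime → p ≠ q → (∃ x : G, ¬ RF p x) → (∃ x : G, ¬ RF q x) →
    NAdj p q G → C4307 p q G) (h : IncV q G) :
    (∀ P : Sylow q G, ∀ x ∈ P, ∀ y ∈ P, x * y = y * x) ∧ (TA q G ∨
      ∃ p : ℕ, p.Prime ∧ (∃ x : G, ¬ RF p x) ∧ p ≠ q ∧ NAdj p q G ∧ TA p G ∧ ∃ N M, Lay q G N M) := by
  obtain ⟨hq, hvq, p, hp, hvp, hpq, hNA⟩ := h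
  obtain ⟨h1, h2, K, L, hK, hL, hKL, h3, h4, h5, h6, h7⟩ := h4307 p q hp hq hpq hvp hvq hNA
  refine ⟨fun P x hx y hy => ?_, ?_⟩
  · have := (h2 P).is_comm.comm ⟨x, hx⟩ ⟨y, hy⟩
    exact congrArg Subtype.val this
  · by_cases hTq : TA q G
    · exact Or.inl hTq
    · right
      have hTp : TA p G := (ta_or hp hq hNA).resolve_right hTq
      obtain ⟨M, hM⟩ := lay_of_concl hp hq hTp hK hL hKL h3 h4 h6 h7
      exact ⟨p, hp, hvp, hpq, hNA, hTp, K, M, hM⟩

/-- **Key**: a layer for every incomplete vertex on which all `π₀`-elements of `G'` act trivially -/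
theorem key (bNA : BoxNA.{u}) (bBL : BoxBL.{u}) (h4307 : ∀ p q : ℕ, p.Prime → q.Prime → p ≠ q → (∃ x : G, ¬ RF p x) →
    (∃ x : G, ¬ RF q x) → NAdj p q G → C4307 p q G) (h : IncV q G) :
    ∃ N M : Subgroup G, Lay q G N M ∧ ∀ x ∈ derivedSeries G 1,
      (∀ r : ℕ, r.Prime → r ∣ orderOf x → IncV r G) → ∀ m ∈ M, x * m * x⁻¹ * m⁻¹ ∈ N := by
  obtain ⟨hab, hT | ⟨p, hp, hvp, hpq, hNA, hTp, N, M, L⟩⟩ := IncV.cases h4307 h
  · obtain ⟨N, L, hN⟩ := lay_of_ta hT
    exact ⟨N, ⊤, L, fun x _ _ m _ => hN x m⟩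
  · have hq := h.1
    refine ⟨N, M, L, fun x hx hxr => ?_⟩
    haveI := L.nN
    haveI := L.nM
    have hmem : x ∈ Ker N M := by
      refine mem_of_parts x fun r k hr hrk => ?_
      by_cases hrx : r ∣ orderOf x
      swap
      · obtain ⟨j, hj⟩ := hrk
        have h1 : x ^ k = 1 := by
          rw [← orderOf_eq_one_iff]
          exact Nat.eq_one_of_dvd_coprimes (Nat.Coprime.pow_left j ((Nat.Prime.coprime_iff_not_dvd hr).2 hrx))
            (orderOf_dvd_of_pow_eq_one hj) (orderOf_pow_dvd k)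
        rw [h1]; exact one_mem _
      have hI := hxr r hr hrx
      have hxk : x ^ k ∈ derivedSeries G 1 := pow_mem hx k
      by_cases hrq : r = q
      · subst hrq
        exact L.le_Ker hq hab (L.pel_mem hq hrk)
      have hTr : TA r (G ⧸ Ker N M) := by
        by_cases hTr : TA r G
        · exact hTr.quo hr (Ker N M)
        obtain ⟨-, h2 | ⟨t, ht, hvt, htr, hNA', hTt, N', M', L'⟩⟩ := IncV.cases h4307 hI
        · exact absurd h2 hTr
        · have hrp : r ≠ p := by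
            rintro rfl
            exact hTr hTp
          exact ta_quo bNA bBL hp hq hr ht hTp hNA hvp L htr.symm hrp hTt hNA' hvt L'
      obtain ⟨K, hK, h1, -, h3⟩ := hTr
      have h4 : ((x ^ k : G) : G ⧸ Ker N M) ∈ K := by
        have h5 := mem_derived_quo (Ker N M) 1 hxk
        exact derived_one_le h3 h5
      exact (QuotientGroup.eq_one_iff _).1
        ((hrk.map (QuotientGroup.mk' (Ker N M))).eq_one_of_mem hr h1 h4)
    exact hmem

/-- `GoodQ` for all incomplete vertices -/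
theorem good_of_inc (hS : AllF.{u}) (bGL : BoxGL.{u}) (bX : BoxX.{u}) (h4307 : ∀ p q : ℕ, p.Prime → q.Prime → p ≠ q →
    (∃ x : G, ¬ RF p x) → (∃ x : G, ¬ RF q x) → NAdj p q G → C4307 p q G) (h : IncV q G) : GoodQ q G := by
  have hq := h.1
  obtain ⟨hab, hT | ⟨p, hp, hvp, hpq, hNA, hTp, N, M, L⟩⟩ := IncV.cases h4307 h
  · obtain ⟨K, hK, h1, -, h3⟩ := hT
    refine ⟨⊥, inferInstance, fun x hx => by rw [mem_bot.1 hx]; exact PEl.one, fun x hx hxq => ?_⟩
    rw [mem_bot]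
    exact hxq.eq_one_of_mem hq h1 (derived_one_le h3 (derived_two_le_one hx))
  · exact thmB hS bGL bX hp hq hpq hTp hNA hvp L hab

theorem le_fitting (hq : q.Prime) {A : Subgroup G} (hA : A.Normal) (h : ∀ x ∈ A, PEl q x) :
    A ≤ Cfsg.fittingSubgroup G := by
  haveI := Fact.mk hq
  refine le_sSup ⟨hA, ?_⟩
  have h1 : IsPGroup q A := by
    rintro ⟨x, hx⟩
    obtain ⟨k, hk⟩ := h x hx
    exact ⟨k, Subtype.ext hk⟩
  exact h1.isNilpotent

/-- **S4256** modulo S4307 -/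
theorem main (hS : AllF.{u}) (bNA : BoxNA.{u}) (bGL : BoxGL.{u}) (bBL : BoxBL.{u}) (bX : BoxX.{u})
    (h4307 : ∀ p q : ℕ, p.Prime → q.Prime → p ≠ q → (∃ x : G, ¬ RF p x) →
      (∃ x : G, ¬ RF q x) → NAdj p q G → C4307 p q G) (π : Set ℕ) (hπ : ∀ q, q ∈ π ↔ IncV q G) :
    ∃ H : Subgroup G, Cfsg.IsPiHall π H ∧ derivedSeries H 2 = ⊥ ∧ H ⊓ derivedSeries G 2 ≤ Cfsg.fittingSubgroup G := by
  obtain ⟨H, hH⟩ := exists_hall π (Nat.card G) G le_rfl fun q hq => by
    obtain ⟨N, M, L, -⟩ := key bNA bBL h4307 ((hπ q).1 hq)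
    exact ⟨((hπ q).1 hq).1, N, M, L⟩
  have hHord : ∀ x ∈ H, ∀ r : ℕ, r.Prime → r ∣ orderOf x → IncV r G := by
    intro x hx r hr hrx
    rw [← hπ]
    apply hH.1 r hr
    have := orderOf_dvd_natCard (⟨x, hx⟩ : H)
    rw [Subgroup.orderOf_mk] at this
    exact hrx.trans this
  refine ⟨H, hH, ?_, ?_⟩
  · -- metabelian
    have hcomm : ∀ a ∈ H ⊓ derivedSeries G 1, ∀ b ∈ H ⊓ derivedSeries G 1, a * b * a⁻¹ * b⁻¹ = 1 := by
      intro a ha b hb
      by_contra hne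
      have hcX : a * b * a⁻¹ * b⁻¹ ∈ H ⊓ derivedSeries G 1 :=
        mul_mem (mul_mem (mul_mem ha hb) (inv_mem ha)) (inv_mem hb)
      have h1 : orderOf (a * b * a⁻¹ * b⁻¹) ≠ 1 := fun h => hne (orderOf_eq_one_iff.1 h)
      obtain ⟨q, hq, hqd⟩ := Nat.exists_prime_and_dvd h1
      obtain ⟨N, M, L, hL⟩ := key bNA bBL h4307 (hHord _ (mem_inf.1 hcX).1 q hq hqd)
      have hTA : TA q ↥(H ⊓ derivedSeries G 1) := by
        refine ta_of_comm hq (L.sub hq (H ⊓ derivedSeries G 1)) fun g m hm => ?_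
        rw [mem_subgroupOf]
        exact hL g (mem_inf.1 g.2).2 (hHord g (mem_inf.1 g.2).1) m (mem_subgroupOf.1 hm)
      obtain ⟨K, hK, h2, -, h3⟩ := hTA
      apply h2
      have h4 : (⟨a, ha⟩ : ↥(H ⊓ derivedSeries G 1)) * ⟨b, hb⟩ * (⟨a, ha⟩)⁻¹ * (⟨b, hb⟩)⁻¹ ∈ K := h3 _ _
      have h5 := orderOf_dvd_natCard (⟨_, h4⟩ : K)
      rw [Subgroup.orderOf_mk, ← Subgroup.orderOf_coe] at h5
      exact hqd.trans h5
    rw [eq_bot_iff, derivedSeries_succ, commutator_le]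
    intro x hx y hy
    have hmem : ∀ z : H, z ∈ derivedSeries H 1 → (z : G) ∈ H ⊓ derivedSeries G 1 := fun z hz =>
      mem_inf.2 ⟨z.2, map_derivedSeries_le_derivedSeries H.subtype 1 ⟨z, hz, rfl⟩⟩
    rw [mem_bot]
    exact Subtype.ext (hcomm x (hmem x hx) y (hmem y hy))
  · intro x hx
    obtain ⟨hxH, hxG⟩ := mem_inf.1 hx
    refine mem_of_parts x fun r k hr hrk => ?_
    by_cases hrx : r ∣ orderOf x
    swap
    · obtain ⟨j, hj⟩ := hrk
      have h1 : x ^ k = 1 := by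
        rw [← orderOf_eq_one_iff]
        exact Nat.eq_one_of_dvd_coprimes (Nat.Coprime.pow_left j ((Nat.Prime.coprime_iff_not_dvd hr).2 hrx))
          (orderOf_dvd_of_pow_eq_one hj) (orderOf_pow_dvd k)
      rw [h1]; exact one_mem _
    obtain ⟨A, hA1, hA2, hA3⟩ := good_of_inc hS bGL bX h4307 (hHord x hxH r hr hrx)
    exact le_fitting hr hA1 hA2 (hA3 _ (pow_mem hxG k) hrk)

end Cfsg.Agent.H529.Inc
end

-- part: H529/IncG
section
set_option linter.all false

/-!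
# S4256 from S4307 (helper529), in the form of the statements
-/

set_option autoImplicit false

namespace Cfsg.Agent.H529.Inc

open Subgroup Cfsg.Agent.H532.Thr Cfsg.Agent.H544.CS Cfsg.Agent.H529.CsLin Cfsg.Agent.H529.FSolv

universe u

/-- **S4256** from S4307 and the boxes -/
theorem s4256 (hS : AllF.{u}) (bNA : BoxNA.{u}) (bGL : BoxGL.{u}) (bBL : BoxBL.{u}) (bX : BoxX.{u}) {G : Type u} [Group G]
    [Finite G]
    (h4307 : ∀ p q : ℕ, p.Prime → q.Prime → p ≠ q → (∃ x : G, p ∣ (centralizer ({x} : Set G)).index) →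
      (∃ x : G, q ∣ (centralizer ({x} : Set G)).index) → (∀ x : G, ¬ p * q ∣ (centralizer ({x} : Set G)).index) →
      C4307 p q G) :
    ∃ H : Subgroup G,
      Cfsg.IsPiHall {p : ℕ | (p.Prime ∧ ∃ g : G, p ∣ (Subgroup.centralizer ({g} : Set G)).index) ∧ ∃ q : ℕ, (q.Prime ∧ ∃ g : G, q ∣ (Subgroup.centralizer ({g} : Set G)).index) ∧ q ≠ p ∧ ¬ (∃ g : G, p * q ∣ (Subgroup.centralizer ({g} : Set G)).index)} H ∧
      derivedSeries H 2 = ⊥ ∧ H ⊓ derivedSeries G 2 ≤ Cfsg.fittingSubgroup G := by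
  refine main hS bNA bGL bBL bX (fun p q hp hq hpq hvp hvq hNA => ?_) _ fun p => ?_
  · refine h4307 p q hp hq hpq ?_ ?_ fun x hx => ?_
    · obtain ⟨x, hx⟩ := hvp
      exact ⟨x, not_not.1 hx⟩
    · obtain ⟨x, hx⟩ := hvq
      exact ⟨x, not_not.1 hx⟩
    · rcases hNA x with h | h
      · exact h ((dvd_mul_right p q).trans hx)
      · exact h ((dvd_mul_left q p).trans hx)
  · constructor
    · rintro ⟨⟨hp, g, hg⟩, q, ⟨hq, g', hg'⟩, hqp, hno⟩
      refine ⟨hp, ⟨g, not_not.2 hg⟩, q, hq, ⟨g', not_not.2 hg'⟩, hqp, fun x => ?_⟩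
      by_contra hcon
      simp only [RF, not_or, not_not] at hcon
      exact hno ⟨x, Nat.Coprime.mul_dvd_of_dvd_of_dvd ((Nat.coprime_primes hp hq).2 hqp.symm) hcon.2 hcon.1⟩
    · rintro ⟨hp, ⟨g, hg⟩, q, hq, ⟨g', hg'⟩, hqp, hNA⟩
      refine ⟨⟨hp, g, not_not.1 hg⟩, q, ⟨hq, g', not_not.1 hg'⟩, hqp, ?_⟩
      rintro ⟨x, hx⟩
      rcases hNA x with h | h
      · exact h ((dvd_mul_left q p).trans hx)
      · exact h ((dvd_mul_right p q).trans hx)

end Cfsg.Agent.H529.Inc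
end
end
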